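import Cfsg.Agent.H427.Sp.Hit

/-!
# `Alt 7` in characteristic three: an element of order 6 with non-zero norm (TEAM SPEC-ALT)
-/

set_option autoImplicit false

namespace Cfsg.Agent.H427.Sp.Seven

open Cfsg.Agent.H357.Sp Cfsg.Agent.H546.Sp Cfsg.Agent.H427.Sp Finset Equiv

universe u

def a : alternatingGroup (Fin 7) := ⟨swap 0 1 * swap 2 3, Perm.mem_alternatingGroup.2 (by decide +kernel)⟩
def b : alternatingGroup (Fin 7) := ⟨swap 0 2 * swap 1 3, Perm.mem_alternatingGroup.2 (by decide +kernel)⟩
def h : alternatingGroup (Fin 7) := ⟨swap 0 1 * swap 1 2, Perm.mem_alternatingGroup.2 (by decide +kernel)⟩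
def i : alternatingGroup (Fin 7) := ⟨swap 3 4 * swap 5 6, Perm.mem_alternatingGroup.2 (by decide +kernel)⟩
def j : alternatingGroup (Fin 7) := ⟨swap 3 5 * swap 4 6, Perm.mem_alternatingGroup.2 (by decide +kernel)⟩

theorem aa : a * a = 1 := by decide +kernel
theorem bb : b * b = 1 := by decide +kernel
theorem ab : b * a = a * b := by decide +kernel
theorem ane : a ≠ 1 := by decide +kernel
theorem bne : b ≠ 1 := by decide +kernel
theorem abne : a * b ≠ 1 := by decide +kernel

def E : Subgroup (alternatingGroup (Fin 7)) where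
  carrier := {x | x = 1 ∨ x = a ∨ x = b ∨ x = a * b}
  one_mem' := Or.inl rfl
  mul_mem' := by
    have hx : ∀ x y : alternatingGroup (Fin 7), x * y = x * y := fun _ _ => rfl
    rintro x y (rfl | rfl | rfl | rfl) (rfl | rfl | rfl | rfl) <;> decide +kernel
  inv_mem' := by
    rintro x (rfl | rfl | rfl | rfl) <;> decide +kernel

theorem mem_E {x : alternatingGroup (Fin 7)} : x ∈ E ↔ x = 1 ∨ x = a ∨ x = b ∨ x = a * b := Iff.rfl

theorem sq_E {x : alternatingGroup (Fin 7)} (hx : x ∈ E) : x ^ 2 = 1 := by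
  rcases mem_E.1 hx with rfl | rfl | rfl | rfl <;> decide +kernel

theorem isPGroup_E : IsPGroup 2 ↥E := by
  intro x
  refine ⟨1, ?_⟩
  rw [pow_one]
  exact Subtype.ext (sq_E x.2)

theorem order_h : orderOf h = 3 := by
  have : Fact (Nat.Prime 3) := ⟨Nat.prime_three⟩
  exact orderOf_eq_prime (by decide +kernel) (by decide +kernel)

theorem conj_E {x : alternatingGroup (Fin 7)} (hx : x ∈ E) : h * x * h⁻¹ ∈ E := by
  rw [mem_E]
  rcases mem_E.1 hx with rfl | rfl | rfl | rfl <;> decide +kernel

theorem fix1 {x : alternatingGroup (Fin 7)} (hx : x ∈ E) (h1 : h ^ 1 * x * (h ^ 1)⁻¹ = x) : x = 1 := by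
  rcases mem_E.1 hx with rfl | rfl | rfl | rfl
  · rfl
  · exact absurd h1 (by decide +kernel)
  · exact absurd h1 (by decide +kernel)
  · exact absurd h1 (by decide +kernel)

theorem fix2 {x : alternatingGroup (Fin 7)} (hx : x ∈ E) (h1 : h ^ 2 * x * (h ^ 2)⁻¹ = x) : x = 1 := by
  rcases mem_E.1 hx with rfl | rfl | rfl | rfl
  · rfl
  · exact absurd h1 (by decide +kernel)
  · exact absurd h1 (by decide +kernel)
  · exact absurd h1 (by decide +kernel)

theorem W18 : W (3 * 6) = 11 := by
  have h1 : W (3 ^ 2 * 2 ^ 1) = W (3 ^ 2) + W (2 ^ 1) := W_mul_of_coprime (by decide)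
  rw [W_prime_pow Nat.prime_three (by norm_num), W_prime_pow Nat.prime_two (by norm_num)] at h1
  exact h1

theorem order_two {z : alternatingGroup (Fin 7)} (h1 : z ^ 2 = 1) (h2 : z ≠ 1) : orderOf z = 2 := by
  have : Fact (Nat.Prime 2) := ⟨Nat.prime_two⟩
  exact orderOf_eq_prime h1 h2

/-- every non-trivial module of `Alt 7` in characteristic three has an element of order 6 with non-zero norm -/
theorem exists_six (V : Type u) [AddCommGroup V] [Finite V] (hV : ∀ v : V, 3 • v = 0)
    (ρ : alternatingGroup (Fin 7) →* AddMonoid.End V) (hρ : ∃ a v, ρ a v ≠ v) :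
    ∃ a, orderOf a = 6 ∧ ∃ v, nrm ρ a v ≠ 0 := by
  have hsimple : IsSimpleGroup (alternatingGroup (Fin 7)) :=
    alternatingGroup.isSimpleGroup (by rw [Nat.card_eq_fintype_card, Fintype.card_fin]; norm_num)
  obtain ⟨v, hv⟩ : ∃ v, nrm ρ h v ≠ 0 := by
    refine nrm_ne_zero (k := 3) Nat.prime_three Nat.prime_two (by norm_num) hV ρ E h isPGroup_E order_h
      (fun x hx => conj_E hx) ?_ ?_
    · intro n hn x hx hx1
      have h3 : h ^ 3 = 1 := by rw [← order_h, pow_orderOf_eq_one]
      have h4 : h ^ n = h ^ (n % 3) := by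
        conv_lhs => rw [← Nat.mod_add_div n 3, pow_add, pow_mul, h3, one_pow, mul_one]
      rw [h4] at hx1
      have h5 : n % 3 = 1 ∨ n % 3 = 2 := by omega
      rcases h5 with h5 | h5
      · rw [h5] at hx1; exact fix1 hx hx1
      · rw [h5] at hx1; exact fix2 hx hx1
    · by_contra hcon
      push Not at hcon
      rcases hsimple.eq_bot_or_eq_top_of_normal ρ.ker (MonoidHom.normal_ker ρ) with hk1 | hk1
      · apply ane
        have h1 : a ∈ ρ.ker := by
          rw [MonoidHom.mem_ker]
          ext v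
          exact hcon a (mem_E.2 (Or.inr (Or.inl rfl))) v
        rwa [hk1, Subgroup.mem_bot] at h1
      · obtain ⟨a, v, hav⟩ := hρ
        apply hav
        have h1 : a ∈ ρ.ker := by rw [hk1]; trivial
        rw [MonoidHom.mem_ker] at h1
        rw [h1]; rfl
  set w := nrm ρ h v with hw
  have key : ∀ z : alternatingGroup (Fin 7), z ^ 2 = 1 → z ≠ 1 → h * z = z * h → w + ρ z w ≠ 0 →
      ∃ a, orderOf a = 6 ∧ ∃ v, nrm ρ a v ≠ 0 := by
    intro z hz1 hz2 hz3 hz4
    have ho := order_two hz1 hz2
    have hcop : (orderOf h).Coprime (orderOf z) := by rw [order_h, ho]; decide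
    refine ⟨h * z, ?_, v, ?_⟩
    · have hc : Commute h z := hz3
      rw [hc.orderOf_mul_eq_mul_orderOf_of_coprime hcop, order_h, ho]
    · rw [nrm_mul ρ hz3 hcop, ← hw, nrm, ho, Finset.sum_range_succ, Finset.sum_range_one, pow_zero, pow_one, map_one]
      exact hz4
  by_cases h1 : w + ρ i w = 0
  · by_cases h2 : w + ρ j w = 0
    · refine key (i * j) (by decide +kernel) (by decide +kernel) (by decide +kernel) ?_
      intro h3
      apply hv
      have h4 : ρ i (w + ρ j w) = 0 := by rw [h2, map_zero]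
      rw [map_add, ← rho_mul] at h4
      -- `2 w + (w + i w + j w + i j w) = sum of the three norms`
      have h5 : w + w = 0 := by
        have h6 : (w + ρ i w) + (w + ρ j w) + (w + ρ (i * j) w) = (w + w) + ((w + ρ j w) + (ρ i w + ρ (i * j) w)) := by
          abel
        rw [h1, h2, h3, h4] at h6
        simpa using h6.symm
      have h6 : (3 : ℕ) • w = w + (w + w) := by
        rw [show (3 : ℕ) = 1 + (1 + 1) from rfl, add_smul, add_smul, one_smul]
      rw [h5, add_zero, hV] at h6
      exact h6.symm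
    · exact key j (by decide +kernel) (by decide +kernel) (by decide +kernel) h2
  · exact key i (by decide +kernel) (by decide +kernel) (by decide +kernel) h1

theorem hitB_seven_three : HitB.{u} 2 3 7 10 := by
  intro V _ _ hV ρ hρ
  obtain ⟨a, ha, hv⟩ := exists_six V hV ρ hρ
  exact ⟨a, by rw [ha, W18]; omega, hv⟩

end Cfsg.Agent.H427.Sp.Seven
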