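import Cfsg.Agent.H427.Sp.Large
import Cfsg.Agent.H427.Sp.Seven
import Cfsg.Agent.H546.Sp.Block
import Cfsg.Agent.H546.Sp.RankTwo

/-!
# The norm theorem for alternating groups: final statements (TEAM SPEC-ALT, task C3)

`HitB ε t m w` : every non-trivial module of `Alt m` in characteristic `t` has an element `a` with non-zero norm and
`w ≤ W (t * orderOf a) + (ε if this order is even)`.
-/

set_option autoImplicit false

namespace Cfsg.Agent.H427.Sp

open Cfsg.Agent.H357.Sp Cfsg.Agent.H546.Sp Finset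

universe u

theorem blocks : Blocks where
  pairs := fun hs h2 hj => isBlock_pairs hs h2 hj
  affine := fun hp ha _ hs h2 he h => isBlock_affine hp ha hs h2 he h
  two := fun hp hp2 ha he hj h h' => isBlock_two hp hp2 ha he hj h h'
  two' := fun hp _ ha he h => isBlock_two' hp ha he h

/-- `HitB` is helper546's `HitNP` -/
theorem hitB_iff {ε t R w : ℕ} : HitB.{u} ε t R w ↔
    Cfsg.Agent.H546.Sp.HitNP.{u} t R (fun n => w ≤ W (t * n) + (if Even (t * n) then ε else 0)) := Iff.rfl

theorem hitB_mono_eps {ε ε' t R w : ℕ} (h : HitB.{u} ε t R w) (he : ε ≤ ε') : HitB.{u} ε' t R w := by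
  intro V _ _ hV ρ hv
  obtain ⟨a, h1, h2⟩ := h V hV ρ hv
  refine ⟨a, h1.trans ?_, h2⟩
  split_ifs <;> omega

/-- (i) -/
theorem hitB_i {t n : ℕ} (ht : t.Prime) (hn : 10 ≤ n) : HitB.{u} 0 t n (n + 1) := by
  rcases lt_or_ge n 480 with h | h
  · exact covAll_sound blocks (by norm_num) (by norm_num) (by norm_num) tabMain_ok ht hn h
  · exact hitB_large blocks ht h

/-- (i), degree seven -/
theorem hitB_i' {t : ℕ} (ht : t.Prime) : HitB.{u} 0 t 7 8 :=
  covAll_sound blocks (by norm_num) (by norm_num) (by norm_num) tabC7_ok ht (by norm_num) (by norm_num)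

/-- (ii) -/
theorem hitB_ii {t n : ℕ} (ht : t.Prime) (hn : 5 ≤ n) (hn9 : n ≤ 9) (h6 : n ≠ 6) : HitB.{u} 2 t n (n + 1) := by
  by_cases h5 : n = 5
  · subst h5
    exact covAll_sound blocks (by norm_num) (by norm_num) (by norm_num) tabA5_ok ht (by norm_num) (by norm_num)
  · exact covAll_sound blocks (by norm_num) (by norm_num) (by norm_num) tabA7_ok ht (by omega) (by omega)

/-- degree `n = m`, both parities -/
theorem hitB_one {ε t n : ℕ} (ht : t.Prime) (hn : n = 7 ∨ 10 ≤ n ∨ (ε = 2 ∧ (n = 5 ∨ n = 8 ∨ n = 9))) :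
    HitB.{u} ε t n (n + 1) := by
  rcases hn with rfl | hn | ⟨rfl, hn⟩
  · exact hitB_mono_eps (hitB_i' ht) (Nat.zero_le _)
  · exact hitB_mono_eps (hitB_i ht hn) (Nat.zero_le _)
  · exact hitB_ii ht (by omega) (by omega) (by omega)

/-- (iii) -/
theorem hitB_iii {t m : ℕ} (ht : t.Prime) (hm : m = 7 ∨ m = 8) : HitB.{u} 2 t m (m + 2) :=
  covAll_sound blocks (by norm_num) (by norm_num) (by norm_num) tabB7_ok ht (by omega) (by omega)

/-- (iv) -/
theorem hitB_iv {t m : ℕ} (ht : t.Prime) (hm : m = 11 ∨ m = 13 ∨ m = 14 ∨ m = 17 ∨ m = 19 ∨ m = 20 ∨ m = 23 ∨ m = 24 ∨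
    m = 26 ∨ m = 29) : HitB.{u} 0 t m (m + 2) := by
  rcases hm with rfl | rfl | rfl | rfl | rfl | rfl | rfl | rfl | rfl | rfl
  · exact covAll_sound blocks (by norm_num) (by norm_num) (by norm_num) tabD11_ok ht (by norm_num) (by norm_num)
  · exact covAll_sound blocks (by norm_num) (by norm_num) (by norm_num) tabD13_ok ht (by norm_num) (by norm_num)
  · exact covAll_sound blocks (by norm_num) (by norm_num) (by norm_num) tabD14_ok ht (by norm_num) (by norm_num)
  · exact covAll_sound blocks (by norm_num) (by norm_num) (by norm_num) tabD17_ok ht (by norm_num) (by norm_num)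
  · exact covAll_sound blocks (by norm_num) (by norm_num) (by norm_num) tabD19_ok ht (by norm_num) (by norm_num)
  · exact covAll_sound blocks (by norm_num) (by norm_num) (by norm_num) tabD20_ok ht (by norm_num) (by norm_num)
  · exact covAll_sound blocks (by norm_num) (by norm_num) (by norm_num) tabD23_ok ht (by norm_num) (by norm_num)
  · exact covAll_sound blocks (by norm_num) (by norm_num) (by norm_num) tabD24_ok ht (by norm_num) (by norm_num)
  · exact covAll_sound blocks (by norm_num) (by norm_num) (by norm_num) tabD26_ok ht (by norm_num) (by norm_num)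
  · exact covAll_sound blocks (by norm_num) (by norm_num) (by norm_num) tabD29_ok ht (by norm_num) (by norm_num)

/-- `m + 2`, both parities -/
theorem hitB_add_two {ε t m : ℕ} (ht : t.Prime) (hm : (m = 11 ∨ m = 13 ∨ m = 14 ∨ m = 17 ∨ m = 19 ∨ m = 20 ∨ m = 23 ∨
    m = 24 ∨ m = 26 ∨ m = 29) ∨ (ε = 2 ∧ (m = 7 ∨ m = 8))) : HitB.{u} ε t m (m + 2) := by
  rcases hm with hm | ⟨rfl, hm⟩
  · exact hitB_mono_eps (hitB_iv ht hm) (Nat.zero_le _)
  · exact hitB_iii ht hm

/-- (v) -/
theorem hitB_v {t m : ℕ} (ht : t.Prime) (hm : m = 13 ∨ m = 19 ∨ m = 20 ∨ m = 23 ∨ m = 25) :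
    HitB.{u} 0 t m (m + 3) := by
  rcases hm with rfl | rfl | rfl | rfl | rfl
  · exact covAll_sound blocks (by norm_num) (by norm_num) (by norm_num) tabE13_ok ht (by norm_num) (by norm_num)
  · exact covAll_sound blocks (by norm_num) (by norm_num) (by norm_num) tabE19_ok ht (by norm_num) (by norm_num)
  · exact covAll_sound blocks (by norm_num) (by norm_num) (by norm_num) tabE20_ok ht (by norm_num) (by norm_num)
  · exact covAll_sound blocks (by norm_num) (by norm_num) (by norm_num) tabE23_ok ht (by norm_num) (by norm_num)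
  · exact covAll_sound blocks (by norm_num) (by norm_num) (by norm_num) tabE25_ok ht (by norm_num) (by norm_num)

/-- `m + 3`, `ε = 2` -/
theorem hitB_add_three {t m : ℕ} (ht : t.Prime) (hm : m = 7 ∨ m = 13) : HitB.{u} 2 t m (m + 3) := by
  rcases hm with rfl | rfl
  · by_cases h10 : 10 ≤ t
    · exact hitB_free ht (by omega)
    · have h2 := ht.two_le
      interval_cases t
      · exact chkB_sound blocks ht (.T ⟨2, 3, 1, 2, 1, 1⟩ []) (by decide +kernel)
      · exact Seven.hitB_seven_three
      · exact absurd ht (by decide)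
      · exact chkB_sound blocks ht (.N ⟨2, 3, 1, 2, 1, 1⟩ []) (by decide +kernel)
      · exact absurd ht (by decide)
      · exact chkB_sound blocks ht (.N ⟨2, 3, 1, 2, 1, 1⟩ []) (by decide +kernel)
      · exact absurd ht (by decide)
      · exact absurd ht (by decide)
  · exact covAll_sound blocks (by norm_num) (by norm_num) (by norm_num) tabK13_ok ht (by norm_num) (by norm_num)

/-- (vi) -/
theorem hitB_vi {t m : ℕ} (ht : t.Prime) (hm : m = 13 ∨ m = 14 ∨ m = 19 ∨ m = 23) :
    HitB.{u} 2 t m (m + 4) := by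
  rcases hm with rfl | rfl | rfl | rfl
  · exact covAll_sound blocks (by norm_num) (by norm_num) (by norm_num) tabG13_ok ht (by norm_num) (by norm_num)
  · exact covAll_sound blocks (by norm_num) (by norm_num) (by norm_num) tabG14_ok ht (by norm_num) (by norm_num)
  · exact covAll_sound blocks (by norm_num) (by norm_num) (by norm_num) tabG19_ok ht (by norm_num) (by norm_num)
  · exact covAll_sound blocks (by norm_num) (by norm_num) (by norm_num) tabG23_ok ht (by norm_num) (by norm_num)

/-- (vii) -/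
theorem hitB_vii {t m : ℕ} (ht : t.Prime) (h19 : 19 ≤ m) (h28 : m ≤ 28) : HitB.{u} 0 t m (m + 6) :=
  covAll_sound blocks (by norm_num) (by norm_num) (by norm_num) tabF_ok ht h19 (by omega)

/-- the statement of task C3 -/
theorem hitT_alt {n t : ℕ} (hn : 10 ≤ n) (ht : t.Prime) : HitT.{u} t n (n + 1) := by
  intro V _ _ hV ρ hv
  obtain ⟨a, h1, h2⟩ := hitB_i ht hn V hV ρ hv
  exact ⟨a, by simpa using h1, h2⟩

end Cfsg.Agent.H427.Sp
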