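import Cfsg.Agent.H427.Sp.Rank
import Cfsg.Agent.H357.ChebMid

/-!
# Certificates for elements with non-zero norm (TEAM SPEC-ALT, task C3)

A checker for chains of blocks and rank two steps.
-/

set_option autoImplicit false

namespace Cfsg.Agent.H427.Sp

open Cfsg.Agent.H357.Sp Cfsg.Agent.H546.Sp Cfsg.Agent.H357.Cheb Finset

universe u

/-! ### The predicates -/

/-- `k` is prime to `U` and its weight (with the bonus `ε` for even `k`) is at least `w` -/
def Q (ε : ℕ) (U : List ℕ) (w k : ℕ) : Prop :=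
  (∀ q ∈ U, ¬ q ∣ k) ∧ w ≤ W k + (if Even k then ε else 0)

theorem Q_one {ε : ℕ} {U : List ℕ} (hU : ∀ q ∈ U, q.Prime) : Q ε U 0 1 :=
  ⟨fun q hq h => (hU q hq).one_lt.ne' (Nat.dvd_one.1 h), Nat.zero_le _⟩

theorem Q_mono {ε : ℕ} {U : List ℕ} {w w' k : ℕ} (h : Q ε U w k) (hw : w' ≤ w) : Q ε U w' k := ⟨h.1, hw.trans h.2⟩

theorem Q_mul {ε s m w k : ℕ} {U : List ℕ} (hs : s.Prime) (hU : ∀ q ∈ U, q.Prime) (hsU : s ∉ U) (hm : 1 ≤ m)
    (h : Q ε (s :: U) w k) :
    (s ^ m).Coprime k ∧ Q ε U (s ^ m + (if s = 2 then ε else 0) + w) (s ^ m * k) := by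
  obtain ⟨h1, h2⟩ := h
  have h3 : ¬ s ∣ k := h1 s List.mem_cons_self
  have hc : (s ^ m).Coprime k := coprime_pow_of_not_dvd hs h3
  refine ⟨hc, ?_, ?_⟩
  · intro q hq hd
    rcases (hU q hq).dvd_mul.1 hd with h4 | h4
    · have := (Nat.prime_dvd_prime_iff_eq (hU q hq) hs).1 ((hU q hq).dvd_of_dvd_pow h4)
      exact hsU (this ▸ hq)
    · exact h1 q (List.mem_cons_of_mem _ hq) h4
  · rw [W_mul_of_coprime hc, W_prime_pow hs hm]
    by_cases h4 : s = 2
    · subst h4
      have h5 : ¬ Even k := fun he => h3 he.two_dvd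
      have h6 : Even (2 ^ m * k) := (even_two.pow_of_ne_zero (by omega)).mul_right k
      rw [if_neg h5] at h2
      rw [if_pos rfl, if_pos h6]
      omega
    · have h5 : Even (s ^ m * k) ↔ Even k := by
        have := (hs.odd_of_ne_two h4).pow (n := m)
        rw [Nat.even_mul]
        exact ⟨fun h => h.resolve_left (Nat.not_even_iff_odd.2 this), Or.inr⟩
      rw [if_neg h4]
      simp only [h5]
      omega

theorem Q_top {ε t w k : ℕ} (ht : t.Prime) (h : Q ε [t] w k) :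
    t + (if t = 2 then ε else 0) + w ≤ W (t * k) + (if Even (t * k) then ε else 0) := by
  have h1 := (Q_mul (ε := ε) (U := []) (m := 1) ht (by simp) (by simp) (le_refl 1) h).2.2
  rwa [pow_one] at h1

theorem Q_top' {ε t e w k : ℕ} (ht : t.Prime) (h : Q ε [t] w k) :
    (t ^ e).Coprime k ∧
      t ^ (e + 1) + (if t = 2 then ε else 0) + w ≤ W (t * (t ^ e * k)) + (if Even (t * (t ^ e * k)) then ε else 0) := by
  have h0 : ¬ t ∣ k := h.1 t (by simp)
  refine ⟨coprime_pow_of_not_dvd ht h0, ?_⟩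
  have h1 := (Q_mul (ε := ε) (U := []) (m := e + 1) ht (by simp) (by simp) (by omega) h).2.2
  rwa [pow_succ', mul_assoc, ← pow_succ'] at h1

/-! ### The rules -/

theorem hit_nc {ε t R s m w : ℕ} {U : List ℕ} (ht : t.Prime) (hs : s.Prime) (hs2 : s ≠ 2) (hst : s ≠ t)
    (hU : ∀ q ∈ U, q.Prime) (hsU : s ∉ U) (hm : 1 ≤ m) (hc : 2 * s ^ m ≤ R)
    (h : HitP.{u} t (R - 2 * s ^ m) (Q ε (s :: U) w)) : HitP.{u} t R (Q ε U (s ^ m + w)) := by
  apply hitP_rank_two ht hs hs2 hst hm hc h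
  intro k hk
  have h1 := Q_mul hs hU hsU hm hk
  rw [if_neg hs2, add_zero] at h1
  exact h1

theorem hit_blk {ε t R c p s m w : ℕ} {U : List ℕ} (ht : t.Prime) (hp : p.Prime) (htp : t ≠ p) (hs : s.Prime)
    (hU : ∀ q ∈ U, q.Prime) (hsU : s ∉ U) (h5 : 5 ≤ R) (hc : c ≤ R) (hb : IsBlock c p (s ^ m)) (hm : 1 ≤ m)
    (h : HitP.{u} t (R - c) (Q ε (s :: U) w)) :
    HitNP.{u} t R (Q ε U (s ^ m + (if s = 2 then ε else 0) + w)) :=
  hitNP_of_block ht hp htp h5 hc hb h (fun _ hk => Q_mul hs hU hsU hm hk)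

theorem hitB_blk {ε t R c p m w : ℕ} (ht : t.Prime) (hp : p.Prime) (htp : t ≠ p) (h5 : 5 ≤ R) (hc : c ≤ R)
    (hb : IsBlock c p (t ^ m)) (h : HitP.{u} t (R - c) (Q ε [t] w)) :
    HitB.{u} ε t R (t ^ (m + 1) + (if t = 2 then ε else 0) + w) :=
  HitB.of_hitNP (hitNP_of_block ht hp htp h5 hc hb h (fun _ hk => Q_top' ht hk))

theorem hitB_np {ε t R w : ℕ} (ht : t.Prime) (h : HitNP.{u} t R (Q ε [t] w)) :
    HitB.{u} ε t R (t + (if t = 2 then ε else 0) + w) :=
  h.mono (fun _ hk => Q_top ht hk)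

theorem hitB_mono {ε t R w w' : ℕ} (h : HitB.{u} ε t R w) (hw : w' ≤ w) : HitB.{u} ε t R w' := by
  intro V _ _ hV ρ hv
  obtain ⟨a, h1, h2⟩ := h V hV ρ hv
  exact ⟨a, hw.trans h1, h2⟩

theorem hitB_mono_deg {ε t R R' w : ℕ} (h5 : 5 ≤ R) (h : HitB.{u} ε t R w) (hR : R ≤ R') : HitB.{u} ε t R' w :=
  HitNP.mono_deg (P := fun k => w ≤ W (t * k) + (if Even (t * k) then ε else 0)) h5 h hR

theorem hitB_free {ε t R w : ℕ} (ht : t.Prime) (hw : w ≤ t + (if t = 2 then ε else 0)) : HitB.{u} ε t R w := by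
  have h1 : HitP.{u} t R (Q ε [t] 0) := hitP_one (Q_one (by simpa using ht))
  exact hitB_mono (hitB_np ht h1.toNP) (by omega)

/-! ### Primes -/

theorem nbeq_false {a b : ℕ} : Nat.beq a b = false ↔ a ≠ b := by
  rw [← Bool.not_eq_true, Nat.beq_eq]

/-- a Boolean test for primes below `63001` -/
def isPr (t : ℕ) : Bool := Nat.beq t 2 || (Nat.beq t 3 || isP t)

theorem prime_of_isPr {t : ℕ} (h : isPr t = true) : t.Prime := by
  unfold isPr at h
  rw [Bool.or_eq_true, Bool.or_eq_true, Nat.beq_eq, Nat.beq_eq] at h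
  rcases h with rfl | rfl | h
  · exact Nat.prime_two
  · exact Nat.prime_three
  · exact prime_of_isP h

theorem isPr_of_prime {t : ℕ} (ht : t.Prime) (h : t < 289) : isPr t = true := by
  unfold isPr isP
  simp only [Bool.or_eq_true, Bool.and_eq_true, Nat.blt_eq, Nat.beq_eq]
  have h2 := ht.two_le
  by_cases h3 : t ≤ 4
  · interval_cases t
    · simp
    · simp
    · exact absurd ht (by decide)
  right; right; left
  by_cases h4 : t < 25
  · left
    refine ⟨⟨by omega, h4⟩, ?_⟩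
    have h5 : Nat.Coprime t (Nat.factorial 4) := (Nat.Prime.coprime_iff_not_dvd ht).2 (fun hd => by
      have := (Nat.Prime.dvd_factorial ht).1 hd
      omega)
    exact h5
  · right
    refine ⟨⟨by omega, h⟩, ?_⟩
    have h5 : Nat.Coprime t (Nat.factorial 16) := (Nat.Prime.coprime_iff_not_dvd ht).2 (fun hd => by
      have := (Nat.Prime.dvd_factorial ht).1 hd
      omega)
    have h6 : Nat.factorial 16 = 20922789888000 := by decide +kernel
    rw [h6] at h5
    exact h5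

theorem isPr_of_prime' {t : ℕ} (ht : t.Prime) (h : t < 63001) : isPr t = true := by
  by_cases h1 : t < 289
  · exact isPr_of_prime ht h1
  · unfold isPr isP
    simp only [Bool.or_eq_true, Bool.and_eq_true, Nat.blt_eq, Nat.beq_eq]
    right; right; right
    refine ⟨⟨by omega, h⟩, ?_⟩
    have h5 : Nat.Coprime t (Nat.factorial 250) := (Nat.Prime.coprime_iff_not_dvd ht).2 (fun hd => by
      have := (Nat.Prime.dvd_factorial ht).1 hd
      omega)
    rw [fac250_eq]
    exact h5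

/-! ### Blocks -/

/-- the constructions of blocks (task C2) -/
structure Blocks : Prop where
  pairs : ∀ {s j : ℕ}, s.Prime → s ≠ 2 → 1 ≤ j → IsBlock (2 * s ^ j) 2 (s ^ j)
  affine : ∀ {p a s e j : ℕ}, p.Prime → 1 ≤ a → 3 ≤ p ^ a → s.Prime → s ≠ 2 → 1 ≤ e → s ^ e ∣ p ^ a - 1 →
    IsBlock (p ^ a * s ^ j) p (s ^ (e + j))
  two : ∀ {p a e j : ℕ}, p.Prime → p ≠ 2 → 1 ≤ a → 1 ≤ e → 1 ≤ j → 2 ^ e ∣ p ^ a - 1 → ¬ 2 ^ (e + 1) ∣ p ^ a - 1 →
    IsBlock (p ^ a * 2 ^ j) p (2 ^ (e + j))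
  two' : ∀ {p a e : ℕ}, p.Prime → p ≠ 2 → 1 ≤ a → 1 ≤ e → 2 ^ e ∣ p ^ a - 1 → IsBlock (p ^ a + 2) p (2 ^ e)

/-- the data of a block: `kind = 0` pairs, `1` affine (odd), `2` affine (even), `3` affine (even) with two more points -/
structure Blk where
  kind : ℕ
  p : ℕ
  a : ℕ
  s : ℕ
  e : ℕ
  j : ℕ

def Blk.cost (b : Blk) : ℕ :=
  match b.kind with
  | 0 => 2 * b.s ^ b.j
  | 1 => b.p ^ b.a * b.s ^ b.j
  | 2 => b.p ^ b.a * 2 ^ b.j
  | _ => b.p ^ b.a + 2

def Blk.exp (b : Blk) : ℕ :=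
  match b.kind with
  | 0 => b.j
  | 1 => b.e + b.j
  | 2 => b.e + b.j
  | _ => b.e

def Blk.ok (b : Blk) : Bool :=
  isPr b.p && (isPr b.s && match b.kind with
  | 0 => Nat.beq b.p 2 && (!(Nat.beq b.s 2) && Nat.ble 1 b.j)
  | 1 => Nat.ble 1 b.a && (Nat.ble 3 (b.p ^ b.a) && (!(Nat.beq b.s 2) && (Nat.ble 1 b.e &&
      Nat.beq ((b.p ^ b.a - 1) % b.s ^ b.e) 0)))
  | 2 => Nat.beq b.s 2 && (!(Nat.beq b.p 2) && (Nat.ble 1 b.a && (Nat.ble 1 b.e && (Nat.ble 1 b.j &&
      (Nat.beq ((b.p ^ b.a - 1) % 2 ^ b.e) 0 && !(Nat.beq ((b.p ^ b.a - 1) % 2 ^ (b.e + 1)) 0))))))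
  | _ => Nat.beq b.s 2 && (!(Nat.beq b.p 2) && (Nat.ble 1 b.a && (Nat.ble 1 b.e &&
      Nat.beq ((b.p ^ b.a - 1) % 2 ^ b.e) 0))))

theorem Blk.sound (hB : Blocks) {b : Blk} (h : b.ok = true) :
    b.p.Prime ∧ b.s.Prime ∧ 1 ≤ b.exp ∧ IsBlock b.cost b.p (b.s ^ b.exp) := by
  obtain ⟨kind, p, a, s, e, j⟩ := b
  unfold Blk.ok at h
  rw [Bool.and_eq_true, Bool.and_eq_true] at h
  obtain ⟨h1, h2, h3⟩ := h
  have hp := prime_of_isPr h1
  have hs := prime_of_isPr h2
  refine ⟨hp, hs, ?_⟩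
  dsimp only at hp hs
  match kind with
  | 0 =>
    simp only [Bool.and_eq_true, Nat.beq_eq, Nat.ble_eq, Bool.not_eq_true', nbeq_false] at h3
    obtain ⟨rfl, h4, h5⟩ := h3
    exact ⟨h5, hB.pairs hs h4 h5⟩
  | 1 =>
    simp only [Bool.and_eq_true, Nat.beq_eq, Nat.ble_eq, Bool.not_eq_true', nbeq_false] at h3
    obtain ⟨h4, h5, h6, h7, h8⟩ := h3
    exact ⟨Nat.le_add_right_of_le h7, hB.affine hp h4 h5 hs h6 h7 (Nat.dvd_of_mod_eq_zero h8)⟩
  | 2 =>
    simp only [Bool.and_eq_true, Nat.beq_eq, Nat.ble_eq, Bool.not_eq_true', nbeq_false] at h3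
    obtain ⟨rfl, h5, h6, h7, h8, h9, h10⟩ := h3
    exact ⟨Nat.le_add_right_of_le h7, hB.two hp h5 h6 h7 h8 (Nat.dvd_of_mod_eq_zero h9)
      (fun h => h10 (Nat.mod_eq_zero_of_dvd h))⟩
  | n + 3 =>
    simp only [Bool.and_eq_true, Nat.beq_eq, Nat.ble_eq, Bool.not_eq_true', nbeq_false] at h3
    obtain ⟨rfl, h5, h6, h7, h8⟩ := h3
    exact ⟨h7, hB.two' hp h5 h6 h7 (Nat.dvd_of_mod_eq_zero h8)⟩

/-! ### The trivial alternatives -/

/-- distinct primes, not in `U`, with positive exponents -/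
def altOk (U : List ℕ) : List (ℕ × ℕ) → Bool
  | [] => true
  | (p, a) :: l => isPr p && (!(U.elem p) && (Nat.ble 1 a && altOk (p :: U) l))

def altSum : List (ℕ × ℕ) → ℕ
  | [] => 0
  | (p, a) :: l => p ^ a + altSum l

def altProd : List (ℕ × ℕ) → ℕ
  | [] => 1
  | (p, a) :: l => p ^ a * altProd l

/-- `c` if `2` occurs, otherwise `0` -/
def altTwo (c : ℕ) : List (ℕ × ℕ) → ℕ
  | [] => 0
  | (p, _) :: l => (if p = 2 then c else 0) + altTwo c l

theorem altOk_Q {ε : ℕ} : ∀ (l : List (ℕ × ℕ)) (U : List ℕ), (∀ q ∈ U, q.Prime) → altOk U l = true →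
    Q ε U (altSum l + altTwo ε l) (altProd l)
  | [], U, hU, _ => Q_one hU
  | (p, a) :: l, U, hU, h => by
    unfold altOk at h
    simp only [Bool.and_eq_true, Nat.ble_eq, Bool.not_eq_true'] at h
    obtain ⟨h1, h2, h3, h4⟩ := h
    have hp := prime_of_isPr h1
    have h5 := altOk_Q (ε := ε) l (p :: U) (by
      intro q hq
      rcases List.mem_cons.1 hq with rfl | hq
      · exact hp
      · exact hU q hq) h4
    have h6 : p ∉ U := fun hm => by
      rw [List.elem_eq_true_of_mem hm] at h2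
      exact Bool.noConfusion h2
    have h7 := (Q_mul hp hU h6 h3 h5).2
    unfold altSum altTwo altProd
    exact Q_mono h7 (by omega)

/-- an even element of order `2 ^ a` with `2 ^ a + 2` points -/
theorem exists_two_pow {a : ℕ} (ha : 1 ≤ a) : ∃ x : alternatingGroup (Fin (2 ^ a + 2)), orderOf x = 2 ^ a := by
  have h2 : 2 ≤ 2 ^ a := by
    calc 2 = 2 ^ 1 := rfl
      _ ≤ 2 ^ a := Nat.pow_le_pow_right (by norm_num) ha
  obtain ⟨g, hg⟩ := (Equiv.Perm.exists_with_cycleType_iff (α := Fin (2 ^ a + 2)) (m := {2 ^ a, 2})).2 ⟨by simp, by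
    intro b hb
    simp only [Multiset.insert_eq_cons, Multiset.mem_cons, Multiset.mem_singleton] at hb
    rcases hb with rfl | rfl
    · exact h2
    · exact le_refl _⟩
  have hsign : Equiv.Perm.sign g = 1 := by
    rw [Equiv.Perm.sign_of_cycleType, hg]
    simp only [Multiset.insert_eq_cons, Multiset.sum_cons, Multiset.sum_singleton, Multiset.card_cons,
      Multiset.card_singleton]
    have : Even (2 ^ a + 2 + (1 + 1)) := by
      have h3 : Even (2 ^ a) := even_two.pow_of_ne_zero (by omega)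
      exact (h3.add even_two).add (by decide)
    exact this.neg_one_pow
  refine ⟨⟨g, Equiv.Perm.mem_alternatingGroup.2 hsign⟩, ?_⟩
  rw [← Subgroup.orderOf_coe]
  change orderOf g = 2 ^ a
  rw [← Equiv.Perm.lcm_cycleType, hg]
  simp only [Multiset.insert_eq_cons, Multiset.lcm_cons, Multiset.lcm_singleton]
  exact Nat.dvd_antisymm (Nat.lcm_dvd (dvd_refl _) (by
    rw [normalize_eq]; exact dvd_pow_self 2 (by omega)))
    (Nat.dvd_lcm_left _ _)

theorem exists_order_mul {c R k m : ℕ} (hc : c ≤ R) (h1 : ∃ x : alternatingGroup (Fin c), orderOf x = k)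
    (h2 : ∃ x : alternatingGroup (Fin (R - c)), orderOf x = m) (hk : k.Coprime m) :
    ∃ x : alternatingGroup (Fin R), orderOf x = k * m := by
  obtain ⟨i1, i2, hi1, hi2, hcomm, -⟩ := exists_alt_prod' hc
  obtain ⟨x, hx⟩ := h1
  obtain ⟨y, hy⟩ := h2
  have : Commute (i1 x) (i2 y) := hcomm x y
  refine ⟨i1 x * i2 y, ?_⟩
  rw [this.orderOf_mul_eq_mul_orderOf_of_coprime, orderOf_injective i1 hi1, orderOf_injective i2 hi2, hx, hy]
  rw [orderOf_injective i1 hi1, orderOf_injective i2 hi2, hx, hy]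
  exact hk

theorem altOk_exists : ∀ (l : List (ℕ × ℕ)) (U : List ℕ) (R : ℕ), (∀ q ∈ U, q.Prime) → altOk U l = true →
    altSum l + altTwo 2 l ≤ R → ∃ x : alternatingGroup (Fin R), orderOf x = altProd l
  | [], U, R, hU, _, _ => ⟨1, orderOf_one⟩
  | (p, a) :: l, U, R, hU, h, hR => by
    unfold altOk at h
    simp only [Bool.and_eq_true, Nat.ble_eq, Bool.not_eq_true'] at h
    obtain ⟨h1, h2, h3, h4⟩ := h
    have hp := prime_of_isPr h1
    have hU' : ∀ q ∈ p :: U, q.Prime := by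
      intro q hq
      rcases List.mem_cons.1 hq with rfl | hq
      · exact hp
      · exact hU q hq
    have h5 := altOk_Q (ε := 0) l (p :: U) hU' h4
    have hc : (p ^ a).Coprime (altProd l) := coprime_pow_of_not_dvd hp (h5.1 p List.mem_cons_self)
    unfold altSum altTwo at hR
    unfold altProd
    by_cases h2 : p = 2
    · subst h2
      rw [if_pos rfl] at hR
      exact exists_order_mul (c := 2 ^ a + 2) (by omega) (exists_two_pow h3)
        (altOk_exists l (2 :: U) _ hU' h4 (by omega)) hc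
    · rw [if_neg h2] at hR
      have h6 : 2 ≤ p ^ a := hp.two_le.trans (Nat.le_self_pow (by omega) p)
      exact exists_order_mul (c := p ^ a) (by omega) (exists_cycle ((hp.odd_of_ne_two h2).pow) h6)
        (altOk_exists l (p :: U) _ hU' h4 (by omega)) hc

/-! ### Chains -/

inductive Step where
  | nc (s m : ℕ) : Step
  | blk (b : Blk) (alt : List (ℕ × ℕ)) : Step

/-- `ε` if `s = 2`, otherwise `0` -/
def bon (ε s : ℕ) : ℕ := if s = 2 then ε else 0

def chk (ε t : ℕ) : List Step → ℕ → List ℕ → ℕ → Bool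
  | [], _, _, w => Nat.beq w 0
  | Step.nc s m :: l, R, U, w => isPr s && (!(Nat.beq s 2) && (!(U.elem s) && (Nat.ble 1 m && (Nat.ble (2 * s ^ m) R &&
      chk ε t l (R - 2 * s ^ m) (s :: U) (w - s ^ m)))))
  | Step.blk b alt :: l, R, U, w => b.ok && (!(U.elem b.s) && (!(Nat.beq t b.p) && (Nat.ble 5 R && (Nat.ble b.cost R &&
      (altOk U alt && (Nat.ble (altSum alt + altTwo 2 alt) R && (Nat.ble w (altSum alt + altTwo ε alt) &&
      chk ε t l (R - b.cost) (b.s :: U) (w - (b.s ^ b.exp + bon ε b.s)))))))))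

theorem not_mem_of_elem {U : List ℕ} {s : ℕ} (h : U.elem s = false) : s ∉ U := fun hm => by
  rw [List.elem_eq_true_of_mem hm] at h
  exact Bool.noConfusion h

theorem chk_sound (hB : Blocks) {ε t : ℕ} (ht : t.Prime) : ∀ (l : List Step) (R : ℕ) (U : List ℕ) (w : ℕ),
    (∀ q ∈ U, q.Prime) → t ∈ U → chk ε t l R U w = true → HitP.{u} t R (Q ε U w)
  | [], R, U, w, hU, htU, h => by
    unfold chk at h
    rw [Nat.beq_eq] at h
    rw [h]
    exact hitP_one (Q_one hU)
  | Step.nc s m :: l, R, U, w, hU, htU, h => by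
    unfold chk at h
    simp only [Bool.and_eq_true, Nat.ble_eq, Bool.not_eq_true', nbeq_false] at h
    obtain ⟨h1, h2, h3, h4, h5, h6⟩ := h
    have hs := prime_of_isPr h1
    have hsU := not_mem_of_elem h3
    have hU' : ∀ q ∈ s :: U, q.Prime := by
      intro q hq
      rcases List.mem_cons.1 hq with rfl | hq
      · exact hs
      · exact hU q hq
    have h7 := chk_sound hB ht l _ (s :: U) _ hU' (List.mem_cons_of_mem _ htU) h6
    have h8 := hit_nc ht hs h2 (fun e => hsU (e ▸ htU)) hU hsU h4 h5 h7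
    exact h8.mono (fun k hk => Q_mono hk (by omega))
  | Step.blk b alt :: l, R, U, w, hU, htU, h => by
    unfold chk at h
    simp only [Bool.and_eq_true, Nat.ble_eq, Bool.not_eq_true', nbeq_false] at h
    obtain ⟨h1, h2, h3, h4, h5, h6, h7, h8, h9⟩ := h
    obtain ⟨hp, hs, he, hb⟩ := Blk.sound hB h1
    have hsU := not_mem_of_elem h2
    have hU' : ∀ q ∈ b.s :: U, q.Prime := by
      intro q hq
      rcases List.mem_cons.1 hq with rfl | hq
      · exact hs
      · exact hU q hq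
    have h10 := chk_sound hB ht l _ (b.s :: U) _ hU' (List.mem_cons_of_mem _ htU) h9
    have h11 := hit_blk ht hp h3 hs hU hsU h4 h5 hb he h10
    have h12 : HitNP.{u} t R (Q ε U w) := h11.mono (fun k hk => Q_mono hk (by unfold bon; omega))
    have h13 := altOk_Q (ε := ε) alt U hU h6
    exact hitP_of_hitNP ht h12 (h13.1 t htU) (Q_mono h13 h8) (altOk_exists alt U R hU h6 h7)

/-! ### Certificates -/

inductive Cert where
  | free : Cert
  | T (b : Blk) (l : List Step) : Cert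
  | N (b : Blk) (l : List Step) : Cert
  | H (l : List Step) : Cert

def chkB (ε t n w : ℕ) : Cert → Bool
  | Cert.free => Nat.ble w (t + bon ε t)
  | Cert.T b l => b.ok && (Nat.beq b.s t && (!(Nat.beq t b.p) && (Nat.ble 5 n && (Nat.ble b.cost n &&
      chk ε t l (n - b.cost) [t] (w - (t ^ (b.exp + 1) + bon ε t))))))
  | Cert.N b l => b.ok && (!(Nat.beq b.s t) && (!(Nat.beq t b.p) && (Nat.ble 5 n && (Nat.ble b.cost n &&
      chk ε t l (n - b.cost) [b.s, t] (w - (t + bon ε t) - (b.s ^ b.exp + bon ε b.s))))))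
  | Cert.H l => chk ε t l n [t] (w - (t + bon ε t))

theorem chkB_sound (hB : Blocks) {ε t n w : ℕ} (ht : t.Prime) (c : Cert) (h : chkB ε t n w c = true) :
    HitB.{u} ε t n w := by
  have hU : ∀ q ∈ [t], q.Prime := by simpa using ht
  match c with
  | Cert.free =>
    unfold chkB bon at h
    rw [Nat.ble_eq] at h
    exact hitB_free ht h
  | Cert.T b l =>
    unfold chkB at h
    simp only [Bool.and_eq_true, Nat.ble_eq, Bool.not_eq_true', Nat.beq_eq, nbeq_false] at h
    obtain ⟨h1, h2, h3, h4, h5, h6⟩ := h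
    obtain ⟨hp, hs, he, hb⟩ := Blk.sound hB h1
    rw [h2] at hb
    have h7 := chk_sound hB ht l _ [t] _ hU (by simp) h6
    exact hitB_mono (hitB_blk ht hp h3 h4 h5 hb h7) (by unfold bon; omega)
  | Cert.N b l =>
    unfold chkB at h
    simp only [Bool.and_eq_true, Nat.ble_eq, Bool.not_eq_true', nbeq_false] at h
    obtain ⟨h1, h2, h3, h4, h5, h6⟩ := h
    obtain ⟨hp, hs, he, hb⟩ := Blk.sound hB h1
    have hU' : ∀ q ∈ [b.s, t], q.Prime := by
      intro q hq
      rcases List.mem_cons.1 hq with rfl | hq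
      · exact hs
      · exact hU q hq
    have h7 := chk_sound hB ht l _ [b.s, t] _ hU' (by simp) h6
    have h8 := hit_blk ht hp h3 hs hU (by simpa using h2) h4 h5 hb he h7
    exact hitB_mono (hitB_np ht h8) (by unfold bon; omega)
  | Cert.H l =>
    unfold chkB at h
    have h7 := chk_sound hB ht l _ [t] _ hU (by simp) h
    exact hitB_mono (hitB_np ht h7.toNP) (by unfold bon; omega)

/-! ### Intervals of degrees -/

/-- the certificates cover all `n` in `[x, N)` with weight `n + sh` -/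
def cov (ε t sh N : ℕ) : List (ℕ × Cert) → ℕ → Bool
  | [], x => Nat.ble N x
  | (y, c) :: l, x => Nat.ble x y && (chkB ε t x (y + sh) c && cov ε t sh N l (y + 1))

theorem cov_sound (hB : Blocks) {ε t sh N : ℕ} (ht : t.Prime) : ∀ (l : List (ℕ × Cert)) (x : ℕ), 5 ≤ x →
    cov ε t sh N l x = true → ∀ n, x ≤ n → n < N → HitB.{u} ε t n (n + sh)
  | [], x, _, h, n, hn, hN => by
    unfold cov at h
    rw [Nat.ble_eq] at h
    omega
  | (y, c) :: l, x, h5, h, n, hn, hN => by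
    unfold cov at h
    rw [Bool.and_eq_true, Bool.and_eq_true, Nat.ble_eq] at h
    obtain ⟨h1, h2, h3⟩ := h
    by_cases hy : n ≤ y
    · exact hitB_mono (hitB_mono_deg h5 (chkB_sound hB ht c h2) hn) (by omega)
    · exact cov_sound hB ht l (y + 1) (by omega) h3 n (by omega) hN

/-- find the entry of `t` -/
def look {α : Type} (t : ℕ) : List (ℕ × List α) → List α
  | [] => []
  | (s, l) :: L => if Nat.beq s t then l else look t L

/-- the table covers all primes `t < B` and all `n` in `[lo, N)` -/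
def covAll (ε sh lo N B : ℕ) (tab : List (ℕ × List (ℕ × Cert))) : Bool :=
  (List.range B).all fun t => !(isPr t) || cov ε t sh N (look t tab) (max lo (t + 1 - sh))

theorem covAll_sound (hB : Blocks) {ε sh lo N B : ℕ} {tab : List (ℕ × List (ℕ × Cert))} (hlo : 5 ≤ lo) (hBs : B < 63001)
    (hNB : N + sh ≤ B + 1) (h : covAll ε sh lo N B tab = true) {n t : ℕ} (ht : t.Prime) (h1 : lo ≤ n) (h2 : n < N) :
    HitB.{u} ε t n (n + sh) := by
  by_cases hn : n + sh ≤ t
  · exact hitB_free ht (by omega)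
  · unfold covAll at h
    rw [List.all_eq_true] at h
    have h3 := h t (List.mem_range.2 (by omega))
    rw [isPr_of_prime' ht (by omega)] at h3
    have h4 : cov ε t sh N (look t tab) (max lo (t + 1 - sh)) = true := by simpa using h3
    exact cov_sound hB ht _ _ (by omega) h4 n (by omega) h2

end Cfsg.Agent.H427.Sp
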