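import Cfsg.Agent.H546.Sp.Norm

/-!
# Elements with non-zero norm: the rules for arbitrary predicates of the order (TEAM SPEC-ALT, task C3)

`HitP t R P` : every non-zero module of `Alt R` in characteristic `t` has an element `a` with `P (orderOf a)` and
non-zero norm; `HitNP` : the same for modules with non-trivial action. The proofs of the block rule follow helper546's
`Norm.lean`. New: the rank two rule.
-/

set_option autoImplicit false

namespace Cfsg.Agent.H427.Sp

open Cfsg.Agent.H357.Sp Cfsg.Agent.H546.Sp Finset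

universe u

/-- every non-zero module in characteristic `t` has an element `a` with `P (orderOf a)` and non-zero norm -/
def HitP (t R : ℕ) (P : ℕ → Prop) : Prop :=
  ∀ (V : Type u) [AddCommGroup V] [Finite V], (∀ v : V, t • v = 0) → ∀ ρ : alternatingGroup (Fin R) →* AddMonoid.End V,
    (∃ v : V, v ≠ 0) → ∃ a, P (orderOf a) ∧ ∃ v, nrm ρ a v ≠ 0

/-- the same for non-trivial modules -/
def HitNP (t R : ℕ) (P : ℕ → Prop) : Prop :=
  ∀ (V : Type u) [AddCommGroup V] [Finite V], (∀ v : V, t • v = 0) → ∀ ρ : alternatingGroup (Fin R) →* AddMonoid.End V,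
    (∃ a v, ρ a v ≠ v) → ∃ a, P (orderOf a) ∧ ∃ v, nrm ρ a v ≠ 0

/-- non-trivial modules of `Alt R` in characteristic `t`: an element `a` with
`w ≤ W (t * orderOf a) + (ε if this order is even)` and non-zero norm -/
def HitB (ε t R w : ℕ) : Prop :=
  ∀ (V : Type u) [AddCommGroup V] [Finite V], (∀ v : V, t • v = 0) → ∀ ρ : alternatingGroup (Fin R) →* AddMonoid.End V,
    (∃ a v, ρ a v ≠ v) → ∃ a, w ≤ W (t * orderOf a) + (if Even (t * orderOf a) then ε else 0) ∧ ∃ v, nrm ρ a v ≠ 0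

theorem HitP.mono {t R : ℕ} {P Q : ℕ → Prop} (h : HitP.{u} t R P) (hPQ : ∀ k, P k → Q k) : HitP.{u} t R Q := by
  intro V _ _ hV ρ hv
  obtain ⟨a, h1, h2⟩ := h V hV ρ hv
  exact ⟨a, hPQ _ h1, h2⟩

theorem HitNP.mono {t R : ℕ} {P Q : ℕ → Prop} (h : HitNP.{u} t R P) (hPQ : ∀ k, P k → Q k) : HitNP.{u} t R Q := by
  intro V _ _ hV ρ hv
  obtain ⟨a, h1, h2⟩ := h V hV ρ hv
  exact ⟨a, hPQ _ h1, h2⟩

theorem HitP.toNP {t R : ℕ} {P : ℕ → Prop} (h : HitP.{u} t R P) : HitNP.{u} t R P := by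
  intro V _ _ hV ρ ⟨a, v, hv⟩
  refine h V hV ρ ?_
  by_cases h0 : v = 0
  · exact absurd (by rw [h0, map_zero]) hv
  · exact ⟨v, h0⟩

theorem hitP_one {t R : ℕ} {P : ℕ → Prop} (h : P 1) : HitP.{u} t R P := by
  intro V _ _ _ ρ ⟨v, hv⟩
  exact ⟨1, by rwa [orderOf_one], v, by rwa [nrm_one]⟩

theorem hitP_of_hitNP {t R k : ℕ} {P : ℕ → Prop} (ht : t.Prime) (h : HitNP.{u} t R P) (hk : ¬ t ∣ k) (hP : P k)
    (hx : ∃ a : alternatingGroup (Fin R), orderOf a = k) : HitP.{u} t R P := by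
  intro V _ _ hV ρ ⟨v, hv⟩
  by_cases hn : ∃ a v, ρ a v ≠ v
  · exact h V hV ρ hn
  · push Not at hn
    obtain ⟨a, ha⟩ := hx
    refine ⟨a, by rwa [ha], v, ?_⟩
    have : nrm ρ a v = k • v := by
      unfold nrm
      rw [Finset.sum_congr rfl (fun i _ => hn (a ^ i) v), Finset.sum_const, Finset.card_range, ha]
    rw [this]
    exact smul_ne_zero' ht hV hk hv

theorem HitB.of_hitNP {ε t R w : ℕ}
    (h : HitNP.{u} t R (fun k => w ≤ W (t * k) + (if Even (t * k) then ε else 0))) : HitB.{u} ε t R w := h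

/-! ### `Alt c × Alt (R - c)` in `Alt R` -/

theorem exists_alt_prod' {c R : ℕ} (hc : c ≤ R) :
    ∃ (i1 : alternatingGroup (Fin c) →* alternatingGroup (Fin R))
      (i2 : alternatingGroup (Fin (R - c)) →* alternatingGroup (Fin R)),
      Function.Injective i1 ∧ Function.Injective i2 ∧ (∀ a b, i1 a * i2 b = i2 b * i1 a) ∧
      ∀ a b, i1 a * i2 b = 1 → a = 1 ∧ b = 1 := by
  let e : Fin c ⊕ Fin (R - c) ≃ Fin R := finSumFinEquiv.trans (finCongr (by omega))
  let F : Equiv.Perm (Fin c) × Equiv.Perm (Fin (R - c)) →* Equiv.Perm (Fin R) :=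
    (e.permCongrHom : _ →* _).comp (Equiv.Perm.sumCongrHom _ _)
  have hF : Function.Injective F := e.permCongrHom.injective.comp Equiv.Perm.sumCongrHom_injective
  have hs : ∀ a b, Equiv.Perm.sign (F (a, b)) = Equiv.Perm.sign a * Equiv.Perm.sign b := by
    intro a b
    have : F (a, b) = e.permCongr (Equiv.Perm.sumCongr a b) := rfl
    rw [this, Equiv.Perm.sign_permCongr, Equiv.Perm.sign_sumCongr]
  let j1 : alternatingGroup (Fin c) →* alternatingGroup (Fin R) :=
    ((F.comp (MonoidHom.inl _ _)).comp (alternatingGroup (Fin c)).subtype).codRestrict _ (by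
      intro x
      rw [Equiv.Perm.mem_alternatingGroup]
      have : Equiv.Perm.sign (F ((x : Equiv.Perm (Fin c)), 1)) = 1 := by
        rw [hs, Equiv.Perm.mem_alternatingGroup.1 x.2]; simp
      exact this)
  let j2 : alternatingGroup (Fin (R - c)) →* alternatingGroup (Fin R) :=
    ((F.comp (MonoidHom.inr _ _)).comp (alternatingGroup (Fin (R - c))).subtype).codRestrict _ (by
      intro x
      rw [Equiv.Perm.mem_alternatingGroup]
      have : Equiv.Perm.sign (F (1, (x : Equiv.Perm (Fin (R - c))))) = 1 := by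
        rw [hs, Equiv.Perm.mem_alternatingGroup.1 x.2]; simp
      exact this)
  refine ⟨j1, j2, ?_, ?_, ?_, ?_⟩
  · intro x y hxy
    have h1 : F ((x : Equiv.Perm (Fin c)), 1) = F ((y : Equiv.Perm (Fin c)), 1) := congrArg Subtype.val hxy
    have h2 := hF h1
    exact Subtype.ext (congrArg Prod.fst h2)
  · intro x y hxy
    have h1 : F (1, (x : Equiv.Perm (Fin (R - c)))) = F (1, (y : Equiv.Perm (Fin (R - c)))) := congrArg Subtype.val hxy
    have h2 := hF h1
    exact Subtype.ext (congrArg Prod.snd h2)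
  · intro a b
    apply Subtype.ext
    change F ((a : Equiv.Perm (Fin c)), 1) * F (1, (b : Equiv.Perm (Fin (R - c)))) =
      F (1, (b : Equiv.Perm (Fin (R - c)))) * F ((a : Equiv.Perm (Fin c)), 1)
    rw [← map_mul, ← map_mul]
    simp
  · intro a b hab
    have h1 : F ((a : Equiv.Perm (Fin c)), 1) * F (1, (b : Equiv.Perm (Fin (R - c)))) = 1 := congrArg Subtype.val hab
    rw [← map_mul] at h1
    have h2 := hF (h1.trans (map_one F).symm)
    simp only [Prod.mk_mul_mk, mul_one, one_mul] at h2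
    have h3 := congrArg Prod.fst h2
    have h4 := congrArg Prod.snd h2
    exact ⟨Subtype.ext h3, Subtype.ext h4⟩

/-! ### The common core -/

theorem core {t R c k : ℕ} {P Q : ℕ → Prop} (h : HitP.{u} t (R - c) Q)
    (hQ : ∀ m, Q m → k.Coprime m ∧ P (k * m))
    (i1 : alternatingGroup (Fin c) →* alternatingGroup (Fin R))
    (i2 : alternatingGroup (Fin (R - c)) →* alternatingGroup (Fin R))
    (hi1 : Function.Injective i1) (hi2 : Function.Injective i2) (hcomm : ∀ a b, i1 a * i2 b = i2 b * i1 a)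
    (g : alternatingGroup (Fin c)) (hgk : orderOf g = k)
    (V : Type u) [AddCommGroup V] [Finite V] (hV : ∀ v : V, t • v = 0) (ρ : alternatingGroup (Fin R) →* AddMonoid.End V)
    (hne : ∃ v, nrm ρ (i1 g) v ≠ 0) : ∃ a, P (orderOf a) ∧ ∃ v, nrm ρ a v ≠ 0 := by
  -- the module of norms
  let V1 : AddSubgroup V := (nrmHom ρ (i1 g)).range
  have hst : ∀ b : alternatingGroup (Fin (R - c)), ∀ v ∈ V1, ρ (i2 b) v ∈ V1 := by
    rintro b _ ⟨v, rfl⟩
    refine ⟨ρ (i2 b) v, ?_⟩
    rw [nrmHom_apply, nrmHom_apply, nrm_comm ρ (hcomm g b)]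
  let ρ1 : alternatingGroup (Fin (R - c)) →* AddMonoid.End V1 :=
    { toFun := fun b =>
        { toFun := fun v => ⟨ρ (i2 b) v, hst b v v.2⟩
          map_zero' := by apply Subtype.ext; simp
          map_add' := fun x y => by apply Subtype.ext; simp }
      map_one' := by
        ext v
        change ρ (i2 1) (v : V) = (v : V)
        rw [map_one, map_one]; rfl
      map_mul' := fun x y => by
        ext v
        change ρ (i2 (x * y)) (v : V) = ρ (i2 x) (ρ (i2 y) (v : V))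
        rw [map_mul, rho_mul] }
  have hρ1 : ∀ b (v : V1), ((ρ1 b v : V1) : V) = ρ (i2 b) v := fun b v => rfl
  have hnrm : ∀ b (v : V1), ((nrm ρ1 b v : V1) : V) = nrm ρ (i2 b) v := by
    intro b v
    unfold nrm
    rw [orderOf_injective i2 hi2, AddSubgroup.val_finsetSum]
    apply Finset.sum_congr rfl
    intro i _
    rw [hρ1, map_pow]
  obtain ⟨v0, hv0⟩ := hne
  obtain ⟨a2, ha2, v2, hv2⟩ := h V1 (fun v => by apply Subtype.ext; simpa using hV v) ρ1
    ⟨⟨nrmHom ρ (i1 g) v0, v0, rfl⟩, fun h0 => hv0 (congrArg Subtype.val h0)⟩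
  obtain ⟨hc1, hc2⟩ := hQ _ ha2
  have hcop : (orderOf (i1 g)).Coprime (orderOf (i2 a2)) := by
    rw [orderOf_injective i1 hi1, orderOf_injective i2 hi2, hgk]
    exact hc1
  refine ⟨i1 g * i2 a2, ?_, ?_⟩
  · have : Commute (i1 g) (i2 a2) := hcomm g a2
    rw [this.orderOf_mul_eq_mul_orderOf_of_coprime hcop, orderOf_injective i1 hi1, orderOf_injective i2 hi2, hgk]
    exact hc2
  · obtain ⟨⟨v2, v3, hv3⟩, hv⟩ : ∃ v : V1, nrm ρ1 a2 v ≠ 0 := ⟨v2, hv2⟩
    refine ⟨v3, ?_⟩
    rw [nrm_mul ρ (hcomm g a2) hcop]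
    intro h0
    apply hv
    apply Subtype.ext
    rw [hnrm]
    rw [← nrmHom_apply ρ (i1 g) v3, hv3] at h0
    exact h0

/-! ### The block rule -/

theorem hitNP_of_block {t R c p k : ℕ} {P Q : ℕ → Prop} (ht : t.Prime) (hp : p.Prime) (htp : t ≠ p) (h5 : 5 ≤ R)
    (hc : c ≤ R) (hb : IsBlock c p k) (h : HitP.{u} t (R - c) Q) (hQ : ∀ m, Q m → k.Coprime m ∧ P (k * m)) :
    HitNP.{u} t R P := by
  intro V _ _ hV ρ hρ
  obtain ⟨i1, i2, hi1, hi2, hcomm, -⟩ := exists_alt_prod' hc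
  obtain ⟨E, g, hE1, hEp, hEc, hgk, hEn, hEf⟩ := hb
  have hsimple : IsSimpleGroup (alternatingGroup (Fin R)) :=
    alternatingGroup.isSimpleGroup (by rw [Nat.card_eq_fintype_card, Fintype.card_fin]; exact h5)
  have hne : ∃ v, nrm ρ (i1 g) v ≠ 0 := by
    refine nrm_ne_zero (k := k) ht hp htp hV ρ (E.map i1) (i1 g) (hEp.map i1) ?_ ?_ ?_ ?_
    · rw [orderOf_injective i1 hi1, hgk]
    · rintro _ ⟨x, hx, rfl⟩
      exact ⟨g * x * g⁻¹, hEn x hx, by simp⟩
    · rintro i hi _ ⟨x, hx, rfl⟩ he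
      have : g ^ i * x * (g ^ i)⁻¹ = x := by
        apply hi1
        rw [← he]; simp
      rw [hEf i hi x hx this, map_one]
    · by_contra hcon
      push Not at hcon
      rcases hsimple.eq_bot_or_eq_top_of_normal ρ.ker (MonoidHom.normal_ker ρ) with hk1 | hk1
      · apply hE1
        rw [eq_bot_iff]
        intro x hx
        have h1 : i1 x ∈ ρ.ker := by
          rw [MonoidHom.mem_ker]
          ext v
          exact hcon (i1 x) ⟨x, hx, rfl⟩ v
        rw [hk1, Subgroup.mem_bot] at h1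
        rw [Subgroup.mem_bot]
        apply hi1
        rw [h1, map_one]
      · obtain ⟨a, v, hav⟩ := hρ
        apply hav
        have h1 : a ∈ ρ.ker := by rw [hk1]; trivial
        rw [MonoidHom.mem_ker] at h1
        rw [h1]; rfl
  exact core h hQ i1 i2 hi1 hi2 hcomm g hgk V hV ρ hne

/-! ### Monotonicity in the degree -/

theorem nrm_comp {A B V : Type*} [Group A] [Group B] [AddCommGroup V] (ρ : A →* AddMonoid.End V) (i : B →* A)
    (hi : Function.Injective i) (b : B) (v : V) : nrm (ρ.comp i) b v = nrm ρ (i b) v := by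
  unfold nrm
  rw [orderOf_injective i hi]
  apply Finset.sum_congr rfl
  intro j _
  rw [MonoidHom.comp_apply, map_pow]

theorem HitP.mono_deg {t R R' : ℕ} {P : ℕ → Prop} (h : HitP.{u} t R P) (hR : R ≤ R') : HitP.{u} t R' P := by
  intro V _ _ hV ρ hv
  obtain ⟨i1, i2, hi1, hi2, hcomm, -⟩ := exists_alt_prod' hR
  obtain ⟨a, ha, v, hav⟩ := h V hV (ρ.comp i1) hv
  exact ⟨i1 a, by rwa [orderOf_injective i1 hi1], v, by rwa [nrm_comp ρ i1 hi1] at hav⟩

theorem HitNP.mono_deg {t R R' : ℕ} {P : ℕ → Prop} (h5 : 5 ≤ R) (h : HitNP.{u} t R P) (hR : R ≤ R') :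
    HitNP.{u} t R' P := by
  intro V _ _ hV ρ hρ
  obtain ⟨i1, i2, hi1, hi2, hcomm, -⟩ := exists_alt_prod' hR
  have hsimple : IsSimpleGroup (alternatingGroup (Fin R')) :=
    alternatingGroup.isSimpleGroup (by rw [Nat.card_eq_fintype_card, Fintype.card_fin]; omega)
  have hsimple' : IsSimpleGroup (alternatingGroup (Fin R)) :=
    alternatingGroup.isSimpleGroup (by rw [Nat.card_eq_fintype_card, Fintype.card_fin]; omega)
  have hn : ∃ a v, (ρ.comp i1) a v ≠ v := by
    by_contra hcon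
    push Not at hcon
    rcases hsimple.eq_bot_or_eq_top_of_normal ρ.ker (MonoidHom.normal_ker ρ) with hk1 | hk1
    · obtain ⟨x, hx⟩ := exists_ne (1 : alternatingGroup (Fin R))
      apply hx
      have h1 : i1 x ∈ ρ.ker := by
        rw [MonoidHom.mem_ker]
        ext v
        exact hcon x v
      rw [hk1, Subgroup.mem_bot] at h1
      apply hi1
      rw [h1, map_one]
    · obtain ⟨a, v, hav⟩ := hρ
      apply hav
      have h1 : a ∈ ρ.ker := by rw [hk1]; trivial
      rw [MonoidHom.mem_ker] at h1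
      rw [h1]; rfl
  obtain ⟨a, ha, v, hav⟩ := h V hV (ρ.comp i1) hn
  exact ⟨i1 a, by rwa [orderOf_injective i1 hi1], v, by rwa [nrm_comp ρ i1 hi1] at hav⟩

end Cfsg.Agent.H427.Sp
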