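import Cfsg.Agent.H427.Sp.Tab
import Cfsg.Agent.H357.NT
import Cfsg.Agent.H357.PermOrd

/-!
# The norm theorem for alternating groups (TEAM SPEC-ALT, task C3)
-/

set_option autoImplicit false

namespace Cfsg.Agent.H427.Sp

open Cfsg.Agent.H357.Sp Cfsg.Agent.H546.Sp Finset

universe u

theorem hit_half {ε t : ℕ} (ht : t.Prime) (P : Finset ℕ) : ∀ (U : List ℕ) (R : ℕ), (∀ q ∈ U, q.Prime) → t ∈ U →
    (∀ p ∈ P, p.Prime ∧ p ≠ 2 ∧ p ∉ U) → 2 * ∑ p ∈ P, p ≤ R → HitP.{u} t R (Q ε U (∑ p ∈ P, p)) := by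
  classical
  induction P using Finset.induction_on with
  | empty =>
    intro U R hU _ _ _
    rw [Finset.sum_empty]
    exact hitP_one (Q_one hU)
  | insert a P ha ih =>
    intro U R hU htU hP hR
    rw [Finset.sum_insert ha] at hR ⊢
    obtain ⟨h1, h2, h3⟩ := hP a (Finset.mem_insert_self _ _)
    have hU' : ∀ q ∈ a :: U, q.Prime := by
      intro q hq
      rcases List.mem_cons.1 hq with rfl | hq
      · exact h1
      · exact hU q hq
    have h4 := ih (a :: U) (R - 2 * a ^ 1) hU' (List.mem_cons_of_mem _ htU) (by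
      intro p hp
      obtain ⟨h5, h6, h7⟩ := hP p (Finset.mem_insert_of_mem hp)
      refine ⟨h5, h6, fun hm => ?_⟩
      rcases List.mem_cons.1 hm with rfl | hm
      · exact ha hp
      · exact h7 hm) (by rw [pow_one]; omega)
    have h5 := hit_nc ht h1 h2 (fun e => h3 (e ▸ htU)) hU h3 (le_refl 1) (by rw [pow_one]; omega) h4
    rwa [pow_one] at h5

theorem Q_prod {ε : ℕ} (P : Finset ℕ) : ∀ (U : List ℕ), (∀ q ∈ U, q.Prime) →
    (∀ p ∈ P, p.Prime ∧ p ∉ U) → Q ε U (∑ p ∈ P, p) (∏ p ∈ P, p) := by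
  classical
  induction P using Finset.induction_on with
  | empty =>
    intro U hU _
    rw [Finset.sum_empty, Finset.prod_empty]
    exact Q_one hU
  | insert a P ha ih =>
    intro U hU hP
    rw [Finset.sum_insert ha, Finset.prod_insert ha]
    obtain ⟨h1, h3⟩ := hP a (Finset.mem_insert_self _ _)
    have hU' : ∀ q ∈ a :: U, q.Prime := by
      intro q hq
      rcases List.mem_cons.1 hq with rfl | hq
      · exact h1
      · exact hU q hq
    have h4 := ih (a :: U) hU' (by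
      intro p hp
      obtain ⟨h5, h7⟩ := hP p (Finset.mem_insert_of_mem hp)
      refine ⟨h5, fun hm => ?_⟩
      rcases List.mem_cons.1 hm with rfl | hm
      · exact ha hp
      · exact h7 hm)
    have h5 := (Q_mul h1 hU h3 (le_refl 1) h4).2
    rw [pow_one] at h5
    exact Q_mono h5 (by omega)

/-- half of the points, for modules in characteristic `t` -/
theorem hit_rep {ε t R M : ℕ} {U : List ℕ} (ht : t.Prime) (hU : ∀ q ∈ U, q = 2 ∨ q = t) (htU : t ∈ U) (hM : 28 ≤ M)
    (hR : 2 * M ≤ R) : HitP.{u} t R (Q ε U M) := by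
  obtain ⟨P, hP, hs⟩ := Cfsg.Agent.H357.NT.exists_rep hM t
  rw [← hs]
  refine hit_half ht P U R ?_ htU ?_ (by rw [hs]; exact hR)
  · intro q hq
    rcases hU q hq with rfl | rfl
    · exact Nat.prime_two
    · exact ht
  · intro p hp
    obtain ⟨h1, h2, h3⟩ := hP p hp
    refine ⟨h1, h2, fun hm => ?_⟩
    rcases hU p hm with h4 | h4
    · exact h2 h4
    · exact h3 h4

theorem exists_pow_two {x : ℕ} (h : 1 ≤ x) : ∃ j, 2 ^ j ≤ x ∧ x < 2 * 2 ^ j :=
  ⟨Nat.log 2 x, Nat.pow_log_le_self 2 (by omega), by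
    have := Nat.lt_pow_succ_log_self (b := 2) (by norm_num) x
    rwa [pow_succ'] at this⟩

theorem exists_pow {t x : ℕ} (ht : 2 ≤ t) (h : 1 ≤ x) : ∃ j, t ^ j ≤ x ∧ x < t * t ^ j :=
  ⟨Nat.log t x, Nat.pow_log_le_self t (by omega), by
    have := Nat.lt_pow_succ_log_self (b := t) (by omega) x
    rwa [pow_succ'] at this⟩

/-- characteristic two -/
theorem hitB_two (hB : Blocks) {ε n : ℕ} (hn : 34 ≤ n) : HitB.{u} ε 2 n (n + 1) := by
  obtain ⟨j, hj1, hj2⟩ := exists_pow_two (x := n / 17) (by omega)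
  have h1 : 17 * 2 ^ j ≤ n := by omega
  have h2 : n < 34 * 2 ^ j := by omega
  have hj : 1 ≤ j := by
    rcases Nat.eq_zero_or_pos j with rfl | h
    · simp at h2; omega
    · exact h
  have hb := hB.two (p := 17) (a := 1) (e := 4) (j := j) (by norm_num) (by norm_num) (by norm_num) (by norm_num) hj
    (by norm_num) (by norm_num)
  rw [pow_one] at hb
  have key : ∀ w, HitP.{u} 2 (n - 17 * 2 ^ j) (Q ε [2] w) → HitB.{u} ε 2 n (32 * 2 ^ j + w) := by
    intro w hw
    have h3 := hitB_blk (ε := ε) Nat.prime_two (by norm_num : Nat.Prime 17) (by norm_num) (by omega) h1 hb hw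
    refine hitB_mono h3 ?_
    rw [show (2 : ℕ) ^ (4 + j + 1) = 32 * 2 ^ j by ring]
    omega
  by_cases h3 : n + 1 ≤ 32 * 2 ^ j
  · exact hitB_mono (key 0 (hitP_one (Q_one (by simpa using Nat.prime_two)))) (by omega)
  · have h2j : 2 ≤ 2 ^ j := by
      calc 2 = 2 ^ 1 := rfl
        _ ≤ 2 ^ j := Nat.pow_le_pow_right (by norm_num) hj
    obtain ⟨i, hi1, hi2⟩ := exists_pow (t := 3) (x := 6 * 2 ^ j) (by norm_num) (by omega)
    have hi : 1 ≤ i := by
      rcases Nat.eq_zero_or_pos i with rfl | h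
      · simp at hi2; omega
      · exact h
    have h4 := hit_nc (ε := ε) (t := 2) (R := n - 17 * 2 ^ j) (s := 3) (m := i) (w := 0) (U := [2]) Nat.prime_two
      Nat.prime_three (by norm_num) (by norm_num) (by simpa using Nat.prime_two) (by simp) hi (by omega)
      (hitP_one (Q_one (by simp [Nat.prime_two, Nat.prime_three])))
    exact hitB_mono (key _ h4) (by omega)

/-- characteristic three -/
theorem hitB_three (hB : Blocks) {ε n : ℕ} (hn : 480 ≤ n) : HitB.{u} ε 3 n (n + 1) := by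
  obtain ⟨j, hj1, hj2⟩ := exists_pow (t := 3) (x := n / 4) (by norm_num) (by omega)
  have h1 : 4 * 3 ^ j ≤ n := by omega
  have h2 : n < 12 * 3 ^ j := by omega
  have hb := hB.affine (p := 2) (a := 2) (s := 3) (e := 1) (j := j) Nat.prime_two (by norm_num) (by norm_num)
    Nat.prime_three (by norm_num) (by norm_num) (by norm_num)
  have key : ∀ w, HitP.{u} 3 (n - 4 * 3 ^ j) (Q ε [3] w) → HitB.{u} ε 3 n (9 * 3 ^ j + w) := by
    intro w hw
    have h3 := hitB_blk (ε := ε) Nat.prime_three Nat.prime_two (by norm_num) (by omega) h1 hb hw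
    refine hitB_mono h3 ?_
    rw [show (3 : ℕ) ^ (1 + j + 1) = 9 * 3 ^ j by ring]
    omega
  by_cases h3 : n + 1 ≤ 9 * 3 ^ j
  · exact hitB_mono (key 0 (hitP_one (Q_one (by simpa using Nat.prime_three)))) (by omega)
  · have h4 : HitP.{u} 3 (n - 4 * 3 ^ j) (Q ε [3] (max 28 (n + 1 - 9 * 3 ^ j))) :=
      hit_rep Nat.prime_three (by simp) (by simp) (le_max_left _ _) (by omega)
    exact hitB_mono (key _ h4) (by omega)

/-- two thirds of the points -/
theorem hit_two_thirds (hB : Blocks) {ε t R w : ℕ} (ht : t.Prime) (h5 : 5 ≤ t) (hR : 288 ≤ R) (hw : 3 * w ≤ 2 * R) :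
    HitP.{u} t R (Q ε [t] w) := by
  obtain ⟨i, hi1, hi2⟩ := exists_pow_two (x := R / 9) (by omega)
  have h1 : 9 * 2 ^ i ≤ R := by omega
  have h2 : R < 18 * 2 ^ i := by omega
  have hi : 1 ≤ i := by
    rcases Nat.eq_zero_or_pos i with rfl | h
    · simp at h2; omega
    · exact h
  have hU : ∀ q ∈ [t], q.Prime := by simpa using ht
  have hU2 : ∀ q ∈ [2, t], q.Prime := by
    intro q hq
    simp only [List.mem_cons, List.not_mem_nil, or_false] at hq
    rcases hq with rfl | rfl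
    · exact Nat.prime_two
    · exact ht
  have hb := hB.two (p := 3) (a := 2) (e := 3) (j := i) (by norm_num) (by norm_num) (by norm_num) (by norm_num) hi
    (by norm_num) (by norm_num)
  have h3 : (3 : ℕ) ^ 2 * 2 ^ i = 9 * 2 ^ i := by norm_num
  rw [h3] at hb
  have h4 : HitP.{u} t (R - 9 * 2 ^ i) (Q ε [2, t] (w - 8 * 2 ^ i)) := by
    by_cases h5 : w ≤ 8 * 2 ^ i
    · rw [Nat.sub_eq_zero_of_le h5]
      exact hitP_one (Q_one hU2)
    · have h6 : HitP.{u} t (R - 9 * 2 ^ i) (Q ε [2, t] (max 28 (w - 8 * 2 ^ i))) :=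
        hit_rep ht (by simp) (by simp) (le_max_left _ _) (by omega)
      exact h6.mono (fun k hk => Q_mono hk (le_max_right _ _))
  have h5' := hit_blk (ε := ε) ht Nat.prime_three (by omega) Nat.prime_two hU (by simp; omega) (by omega) h1 hb
    (by omega) h4
  have h6 : HitNP.{u} t R (Q ε [t] w) := h5'.mono (fun k hk => Q_mono hk (by
    rw [show (2 : ℕ) ^ (3 + i) = 8 * 2 ^ i by ring]
    omega))
  obtain ⟨P, hP, hs⟩ := Cfsg.Agent.H357.NT.exists_rep (show 28 ≤ R by omega) t
  have h7 : Q ε [t] (∑ p ∈ P, p) (∏ p ∈ P, p) := Q_prod P [t] hU (fun p hp => ⟨(hP p hp).1, by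
    simpa using (hP p hp).2.2⟩)
  exact hitP_of_hitNP ht h6 (h7.1 t (by simp)) (Q_mono h7 (by omega))
    (Cfsg.Agent.H357.PermOrd.exists_order_prod (fun p hp => ⟨(hP p hp).1, (hP p hp).2.1⟩) (by omega))

theorem hitB_ge_five (hB : Blocks) {ε t n : ℕ} (ht : t.Prime) (h5 : 5 ≤ t) (hn : 480 ≤ n) : HitB.{u} ε t n (n + 1) := by
  have hU : ∀ q ∈ [t], q.Prime := by simpa using ht
  by_cases h1 : n + 1 ≤ t
  · exact hitB_free ht (by omega)
  by_cases h2 : 2 * t ≤ n
  · obtain ⟨b, hb1, hb2⟩ := exists_pow (t := t) (x := n / 2) ht.two_le (by omega)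
    have h3 : 2 * t ^ b ≤ n := by omega
    have h4 : n < 2 * (t * t ^ b) := by omega
    have hb0 : 1 ≤ b := by
      rcases Nat.eq_zero_or_pos b with rfl | h
      · simp at h4; omega
      · exact h
    have hb := hB.pairs ht (by omega) hb0
    have key : ∀ w, HitP.{u} t (n - 2 * t ^ b) (Q ε [t] w) → HitB.{u} ε t n (t * t ^ b + w) := by
      intro w hw
      have h3 := hitB_blk (ε := ε) ht Nat.prime_two (by omega) (by omega) h3 hb hw
      refine hitB_mono h3 ?_
      rw [pow_succ']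
      omega
    by_cases h6 : n + 1 ≤ t * t ^ b
    · exact hitB_mono (key 0 (hitP_one (Q_one hU))) (by omega)
    · have h7 : 5 * t ^ b ≤ t * t ^ b := Nat.mul_le_mul_right _ h5
      have h8 : 5 ≤ t ^ b := h5.trans (Nat.le_self_pow (by omega) t)
      have h9 := hit_two_thirds (ε := ε) (w := n + 1 - t * t ^ b) hB ht h5 (R := n - 2 * t ^ b) (by omega) (by omega)
      exact hitB_mono (key _ h9) (by omega)
  · have h9 := hit_two_thirds (ε := ε) (w := n + 1 - t) hB ht h5 (R := n) (by omega) (by omega)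
    exact hitB_mono (hitB_np ht h9.toNP) (by omega)

theorem hitB_large (hB : Blocks) {ε t n : ℕ} (ht : t.Prime) (hn : 480 ≤ n) : HitB.{u} ε t n (n + 1) := by
  rcases lt_or_ge t 5 with h | h
  · have h2 := ht.two_le
    interval_cases t
    · exact hitB_two hB (by omega)
    · exact hitB_three hB hn
    · exact absurd ht (by decide)
  · exact hitB_ge_five hB ht h hn

end Cfsg.Agent.H427.Sp
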