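import Cfsg.Agent.H427.Sp.Hit

/-!
# The rank two rule (TEAM SPEC-ALT, task C3)

Two disjoint cycles `x`, `y` of length `k = s ^ m` (`s` odd, prime, not the characteristic): some `x ^ a * y ^ b` of order
`k` has a non-zero fixed vector on every non-zero module.
-/

set_option autoImplicit false

namespace Cfsg.Agent.H427.Sp

open Cfsg.Agent.H357.Sp Cfsg.Agent.H546.Sp Finset

universe u

theorem sum_mul_mod {M : Type*} [AddCommMonoid M] {s j : ℕ} (hs : 0 < s) (hj : Nat.Coprime s j) (F : ℕ → M) :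
    ∑ b ∈ range s, F (b * j % s) = ∑ c ∈ range s, F c := by
  have hinj : Set.InjOn (fun b => b * j % s) (range s : Finset ℕ) := by
    intro a ha b hb hab
    have ha' := Finset.mem_range.1 (Finset.mem_coe.1 ha)
    have hb' := Finset.mem_range.1 (Finset.mem_coe.1 hb)
    have h1 : a * j ≡ b * j [MOD s] := hab
    have h2 := Nat.ModEq.cancel_right_of_coprime hj h1
    rw [Nat.ModEq, Nat.mod_eq_of_lt ha', Nat.mod_eq_of_lt hb'] at h2
    exact h2
  have himg : (range s).image (fun b => b * j % s) = range s := by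
    apply Finset.eq_of_subset_of_card_le
    · intro x hx
      obtain ⟨b, -, rfl⟩ := Finset.mem_image.1 hx
      exact Finset.mem_range.2 (Nat.mod_lt _ hs)
    · rw [Finset.card_image_of_injOn hinj]
  conv_rhs => rw [← himg]
  rw [Finset.sum_image hinj]

section

variable {A V : Type*} [Group A] [AddCommGroup V] (ρ : A →* AddMonoid.End V)

theorem rho_one (v : V) : ρ 1 v = v := by rw [map_one]; rfl

theorem rho_pow_fix {z : A} {v : V} (h : ρ z v = v) (n : ℕ) : ρ (z ^ n) v = v := by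
  induction n with
  | zero => rw [pow_zero, rho_one]
  | succ n ih => rw [pow_succ, rho_mul, h, ih]

theorem rho_comm {x y : A} (hxy : x * y = y * x) (v : V) : ρ x (ρ y v) = ρ y (ρ x v) := by
  rw [← rho_mul, ← rho_mul, hxy]

theorem exists_nrm_two {t s : ℕ} (ht : t.Prime) (hs : s.Prime) (hst : s ≠ t) (hV : ∀ v : V, t • v = 0) {X Y : A}
    (hXY : X * Y = Y * X) {v : V} (hv : v ≠ 0) (hX : ρ (X ^ s) v = v) (hY : ρ (Y ^ s) v = v) :
    ∃ a b : ℕ, ¬ (s ∣ a ∧ s ∣ b) ∧ ∑ j ∈ range s, ρ ((X ^ a * Y ^ b) ^ j) v ≠ 0 := by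
  by_contra hcon
  push Not at hcon
  have hc : Commute X Y := hXY
  have hs0 : 0 < s := hs.pos
  -- the function `g`
  have hper : ∀ i j, ρ (X ^ (i % s) * Y ^ (j % s)) v = ρ (X ^ i * Y ^ j) v := by
    intro i j
    have h1 : ∀ i, ρ (X ^ i) v = ρ (X ^ (i % s)) v := by
      intro i
      conv_lhs => rw [← Nat.mod_add_div i s, pow_add, pow_mul, rho_mul, rho_pow_fix ρ hX]
    have h2 : ∀ j, ρ (Y ^ j) v = ρ (Y ^ (j % s)) v := by
      intro j
      conv_lhs => rw [← Nat.mod_add_div j s, pow_add, pow_mul, rho_mul, rho_pow_fix ρ hY]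
    rw [rho_mul, rho_mul, h2 j, rho_comm ρ ((hc.pow_pow i (j % s)).eq), h1 i,
      rho_comm ρ ((hc.pow_pow (i % s) (j % s)).eq)]
  have hY0 : ∑ c ∈ range s, ρ (Y ^ c) v = 0 := by
    have := hcon 0 1 (fun _ h => hs.one_lt.ne' (Nat.dvd_one.1 h))
    simpa using this
  have hT : ∀ i, ∑ c ∈ range s, ρ (X ^ i * Y ^ c) v = 0 := by
    intro i
    have : ρ (X ^ i) (∑ c ∈ range s, ρ (Y ^ c) v) = 0 := by rw [hY0, map_zero]
    rw [map_sum] at this
    rw [← this]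
    apply Finset.sum_congr rfl
    intro c _
    rw [rho_mul]
  have hB : ∑ b ∈ range s, ∑ j ∈ range s, ρ (X ^ j * Y ^ (b * j)) v = 0 := by
    apply Finset.sum_eq_zero
    intro b _
    have := hcon 1 b (fun h => absurd (Nat.dvd_one.1 h) hs.one_lt.ne')
    rw [← this]
    apply Finset.sum_congr rfl
    intro j _
    have h1 : (X ^ 1 * Y ^ b) ^ j = X ^ j * Y ^ (b * j) := by
      rw [pow_one, (hc.pow_right b).mul_pow, pow_mul]
    rw [h1]
  rw [Finset.sum_comm] at hB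
  have hj : ∀ j ∈ range s, j ≠ 0 → ∑ b ∈ range s, ρ (X ^ j * Y ^ (b * j)) v = 0 := by
    intro j hj hj0
    have hcop : Nat.Coprime s j := (Nat.Prime.coprime_iff_not_dvd hs).2 (fun hd => by
      have := Nat.le_of_dvd (Nat.pos_of_ne_zero hj0) hd
      have := Finset.mem_range.1 hj
      omega)
    rw [← hT j, ← sum_mul_mod hs0 hcop (fun c => ρ (X ^ j * Y ^ c) v)]
    apply Finset.sum_congr rfl
    intro b _
    have h1 := hper j (b * j)
    have h2 := hper j (b * j % s)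
    rw [Nat.mod_mod] at h2
    rw [← h1, h2]
  rw [Finset.sum_eq_single 0 hj (fun h => absurd (Finset.mem_range.2 hs0) h)] at hB
  simp only [pow_zero, mul_zero, mul_one, rho_one, Finset.sum_const, Finset.card_range] at hB
  exact smul_ne_zero' ht hV (fun hd => hst ((Nat.prime_dvd_prime_iff_eq ht hs).1 hd).symm) hv hB

theorem fix_sum {s : ℕ} {z : A} {v : V} (hz : ρ (z ^ s) v = v) :
    ρ z (∑ j ∈ range s, ρ (z ^ j) v) = ∑ j ∈ range s, ρ (z ^ j) v := by
  rw [map_sum]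
  have h1 : ∀ j, ρ z (ρ (z ^ j) v) = ρ (z ^ (j + 1)) v := fun j => by rw [← rho_mul, pow_succ']
  simp only [h1]
  have h2 : ∑ j ∈ range (s + 1), ρ (z ^ j) v = ∑ j ∈ range s, ρ (z ^ (j + 1)) v + ρ (z ^ 0) v :=
    Finset.sum_range_succ' _ _
  have h3 : ∑ j ∈ range (s + 1), ρ (z ^ j) v = ∑ j ∈ range s, ρ (z ^ j) v + ρ (z ^ s) v := Finset.sum_range_succ _ _
  rw [hz] at h3
  rw [pow_zero, rho_one] at h2
  exact add_right_cancel (h2.symm.trans h3)

theorem fix_sum' {s : ℕ} {z x : A} {v : V} (hx : x * z = z * x) (h : ρ x v = v) :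
    ρ x (∑ j ∈ range s, ρ (z ^ j) v) = ∑ j ∈ range s, ρ (z ^ j) v := by
  rw [map_sum]
  apply Finset.sum_congr rfl
  intro j _
  have hc : Commute x z := hx
  rw [rho_comm ρ (hc.pow_right j).eq, h]

theorem exists_fix_step {t s : ℕ} (ht : t.Prime) (hs : s.Prime) (hst : s ≠ t) (hV : ∀ v : V, t • v = 0) {N m n : ℕ}
    (hm : 1 ≤ m) (hmn : m ≤ n) (hN : m + n = N + 1)
    (ih : ∀ m n, m + n = N → ∀ x y : A, x * y = y * x → ∀ v : V, v ≠ 0 → ρ (x ^ s ^ m) v = v → ρ (y ^ s ^ n) v = v →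
      ∃ a b : ℕ, ¬ (s ∣ a ∧ s ∣ b) ∧ ∃ w : V, w ≠ 0 ∧ ρ (x ^ a * y ^ b) w = w)
    {x y : A} (hxy : x * y = y * x) {v : V} (hv : v ≠ 0) (hx : ρ (x ^ s ^ m) v = v) (hy : ρ (y ^ s ^ n) v = v) :
    ∃ a b : ℕ, ¬ (s ∣ a ∧ s ∣ b) ∧ ∃ w : V, w ≠ 0 ∧ ρ (x ^ a * y ^ b) w = w := by
  have hc : Commute x y := hxy
  obtain ⟨m', rfl⟩ : ∃ m', m = m' + 1 := ⟨m - 1, by omega⟩
  obtain ⟨n', rfl⟩ : ∃ n', n = n' + 1 := ⟨n - 1, by omega⟩
  have hXs : (x ^ s ^ m') ^ s = x ^ s ^ (m' + 1) := by rw [← pow_mul, ← pow_succ]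
  have hYs : (y ^ s ^ n') ^ s = y ^ s ^ (n' + 1) := by rw [← pow_mul, ← pow_succ]
  obtain ⟨a, b, hab, hw⟩ := exists_nrm_two ρ ht hs hst hV (X := x ^ s ^ m') (Y := y ^ s ^ n')
    (hc.pow_pow _ _).eq hv (by rw [hXs]; exact hx) (by rw [hYs]; exact hy)
  set z : A := (x ^ s ^ m') ^ a * (y ^ s ^ n') ^ b with hz
  have hcx : Commute x z := by
    rw [hz]
    exact (((Commute.refl x).pow_right _).pow_right _).mul_right ((hc.pow_right _).pow_right _)
  have hcy : Commute y z := by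
    rw [hz]
    exact ((hc.symm.pow_right _).pow_right _).mul_right (((Commute.refl y).pow_right _).pow_right _)
  have hzs : ρ (z ^ s) v = v := by
    have : z ^ s = (x ^ s ^ (m' + 1)) ^ a * (y ^ s ^ (n' + 1)) ^ b := by
      rw [hz, (((hc.pow_pow (s ^ m') (s ^ n')).pow_pow a b)).mul_pow]
      congr 1
      · rw [← hXs, ← pow_mul, mul_comm, pow_mul]
      · rw [← hYs, ← pow_mul, mul_comm, pow_mul]
    rw [this, rho_mul, rho_pow_fix ρ hy, rho_pow_fix ρ hx]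
  set v1 : V := ∑ j ∈ range s, ρ (z ^ j) v with hv1
  have hz1 : ρ z v1 = v1 := fix_sum ρ hzs
  have hx1 : ρ (x ^ s ^ (m' + 1)) v1 = v1 := fix_sum' ρ (hcx.pow_left _).eq hx
  have hy1 : ρ (y ^ s ^ (n' + 1)) v1 = v1 := fix_sum' ρ (hcy.pow_left _).eq hy
  by_cases hsa : s ∣ a
  · have hsb : ¬ s ∣ b := fun h => hab ⟨hsa, h⟩
    -- `Y` fixes `v1`
    have h1 : ρ ((y ^ s ^ n') ^ b) v1 = v1 := by
      obtain ⟨a', rfl⟩ := hsa
      have h2 : z = (y ^ s ^ n') ^ b * (x ^ s ^ (m' + 1)) ^ a' := by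
        rw [hz, pow_mul, hXs]
        exact ((hc.pow_pow _ _).pow_pow _ _).eq
      rw [h2, rho_mul, rho_pow_fix ρ hx1] at hz1
      exact hz1
    obtain ⟨u, -, hu⟩ := Nat.exists_mul_mod_eq_one_of_coprime
      ((Nat.Prime.coprime_iff_not_dvd hs).2 hsb).symm hs.one_lt
    have h3 : ρ (y ^ s ^ n') v1 = v1 := by
      have h4 := rho_pow_fix ρ h1 u
      rw [← pow_mul] at h4
      have h5 : b * u = 1 + s * (b * u / s) := by
        have := Nat.mod_add_div (b * u) s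
        rw [hu] at this
        exact this.symm
      rw [h5, pow_add, pow_one, pow_mul, hYs, rho_mul, rho_pow_fix ρ hy1] at h4
      exact h4
    exact ih (m' + 1) n' (by omega) x y hxy v1 hw hx1 h3
  · obtain ⟨d, hd⟩ : ∃ d, n' = m' + d := ⟨n' - m', by omega⟩
    have hcx' : (x ^ a * y ^ (b * s ^ d)) * y = y * (x ^ a * y ^ (b * s ^ d)) :=
      ((hc.pow_left a).mul_left ((Commute.refl y).pow_left _)).eq
    have h1 : (x ^ a * y ^ (b * s ^ d)) ^ s ^ m' = z := by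
      rw [(hc.pow_pow _ _).mul_pow, hz, hd]
      congr 1
      · rw [← pow_mul, ← pow_mul, mul_comm]
      · rw [← pow_mul, ← pow_mul]
        congr 1
        rw [pow_add]; ring
    obtain ⟨a', b', hab', w, hw0, hw1⟩ := ih m' (n' + 1) (by omega) (x ^ a * y ^ (b * s ^ d)) y hcx' v1 hw
      (by rw [h1]; exact hz1) hy1
    refine ⟨a * a', b * s ^ d * a' + b', ?_, w, hw0, ?_⟩
    · rintro ⟨h2, h3⟩
      have h4 : s ∣ a' := (hs.dvd_mul.1 h2).resolve_left hsa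
      exact hab' ⟨h4, (Nat.dvd_add_right (h4.mul_left _)).1 h3⟩
    · rw [(hc.pow_pow _ _).mul_pow, ← pow_mul, ← pow_mul, mul_assoc, ← pow_add] at hw1
      exact hw1

theorem exists_fix {t s : ℕ} (ht : t.Prime) (hs : s.Prime) (hst : s ≠ t) (hV : ∀ v : V, t • v = 0) (N : ℕ) :
    ∀ m n, m + n = N → ∀ x y : A, x * y = y * x → ∀ v : V, v ≠ 0 → ρ (x ^ s ^ m) v = v → ρ (y ^ s ^ n) v = v →
      ∃ a b : ℕ, ¬ (s ∣ a ∧ s ∣ b) ∧ ∃ w : V, w ≠ 0 ∧ ρ (x ^ a * y ^ b) w = w := by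
  induction N with
  | zero =>
    intro m n hmn x y hxy v hv hx hy
    obtain rfl : m = 0 := by omega
    refine ⟨1, 0, fun h => hs.one_lt.ne' (Nat.dvd_one.1 h.1), v, hv, ?_⟩
    rw [pow_zero] at hx
    rw [pow_zero, mul_one]; exact hx
  | succ N ih =>
    intro m n hmn x y hxy v hv hx hy
    rcases Nat.eq_zero_or_pos m with rfl | hm
    · refine ⟨1, 0, fun h => hs.one_lt.ne' (Nat.dvd_one.1 h.1), v, hv, ?_⟩
      rw [pow_zero] at hx
      rw [pow_zero, mul_one]; exact hx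
    rcases Nat.eq_zero_or_pos n with rfl | hn
    · refine ⟨0, 1, fun h => hs.one_lt.ne' (Nat.dvd_one.1 h.2), v, hv, ?_⟩
      rw [pow_zero] at hy
      rw [pow_zero, one_mul]; exact hy
    rcases le_total m n with h | h
    · exact exists_fix_step ρ ht hs hst hV hm h hmn ih hxy hv hx hy
    · obtain ⟨a, b, hab, w, hw, hw1⟩ := exists_fix_step ρ ht hs hst hV hn h (by omega) ih hxy.symm hv hy hx
      refine ⟨b, a, fun h => hab ⟨h.2, h.1⟩, w, hw, ?_⟩
      have hc : Commute x y := hxy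
      rw [(hc.pow_pow b a).eq]
      exact hw1

end

/-- a cycle of odd length `k` in `Alt k` -/
theorem exists_cycle {k : ℕ} (hk : Odd k) (h2 : 2 ≤ k) : ∃ c : alternatingGroup (Fin k), orderOf c = k := by
  obtain ⟨k', rfl⟩ : ∃ k', k = k' + 1 := ⟨k - 1, by omega⟩
  have h1 : Equiv.Perm.sign (finRotate (k' + 1)) = 1 := by
    rw [sign_finRotate]
    obtain ⟨j, hj⟩ := hk
    obtain rfl : k' = 2 * j := by omega
    rw [Nat.add_sub_cancel, pow_mul]; simp
  refine ⟨⟨finRotate (k' + 1), Equiv.Perm.mem_alternatingGroup.2 h1⟩, ?_⟩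
  rw [← Subgroup.orderOf_coe]
  change orderOf (finRotate (k' + 1)) = k' + 1
  obtain ⟨k'', rfl⟩ : ∃ k'', k' = k'' + 1 := ⟨k' - 1, by omega⟩
  have hcyc : (finRotate (k'' + 2)).IsCycle := isCycle_finRotate
  rw [hcyc.orderOf, support_finRotate, Finset.card_univ, Fintype.card_fin]

/-- **the rank two rule** -/
theorem hitP_rank_two {t R s m : ℕ} {P Q : ℕ → Prop} (ht : t.Prime) (hs : s.Prime) (hs2 : s ≠ 2) (hst : s ≠ t)
    (hm : 1 ≤ m) (hc : 2 * s ^ m ≤ R) (h : HitP.{u} t (R - 2 * s ^ m) Q)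
    (hQ : ∀ k, Q k → (s ^ m).Coprime k ∧ P (s ^ m * k)) : HitP.{u} t R P := by
  intro V _ _ hV ρ ⟨v, hv⟩
  obtain ⟨i1, i2, hi1, hi2, hcomm, -⟩ := exists_alt_prod' hc
  have hodd : Odd (s ^ m) := (hs.odd_of_ne_two hs2).pow
  have h2 : 2 ≤ s ^ m := hs.two_le.trans (Nat.le_self_pow (by omega) s)
  obtain ⟨c, hck⟩ := exists_cycle hodd h2
  obtain ⟨j1, j2, hj1, hj2, hjc, hj⟩ := exists_alt_prod' (c := s ^ m) (R := 2 * s ^ m) (by omega)
  obtain ⟨c', hck'⟩ : ∃ c : alternatingGroup (Fin (2 * s ^ m - s ^ m)), orderOf c = s ^ m := by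
    rw [show 2 * s ^ m - s ^ m = s ^ m by omega]
    exact ⟨c, hck⟩
  have hxy : Commute (j1 c) (j2 c') := hjc c c'
  have hck1 := pow_orderOf_eq_one c
  rw [hck] at hck1
  have hck1' := pow_orderOf_eq_one c'
  rw [hck'] at hck1'
  have hxk : (j1 c) ^ s ^ m = 1 := by rw [← map_pow, hck1, map_one]
  have hyk : (j2 c') ^ s ^ m = 1 := by rw [← map_pow, hck1', map_one]
  obtain ⟨a, b, hab, w, hw, hw1⟩ := exists_fix (ρ.comp i1) ht hs hst hV (m + m) m m rfl (j1 c) (j2 c') hxy.eq v hv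
    (by rw [hxk, rho_one]) (by rw [hyk, rho_one])
  set z := (j1 c) ^ a * (j2 c') ^ b with hz
  have hzk : orderOf z = s ^ m := by
    obtain ⟨m', rfl⟩ : ∃ m', m = m' + 1 := ⟨m - 1, by omega⟩
    have : Fact s.Prime := ⟨hs⟩
    apply orderOf_eq_prime_pow
    · intro h1
      rw [hz, (hxy.pow_pow a b).mul_pow, ← map_pow, ← map_pow, ← map_pow, ← map_pow] at h1
      obtain ⟨h3, h4⟩ := hj _ _ h1
      apply hab
      constructor
      · rw [← pow_mul] at h3
        have h5 := orderOf_dvd_of_pow_eq_one h3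
        rw [hck, pow_succ, mul_comm] at h5
        exact Nat.dvd_of_mul_dvd_mul_right (pow_pos hs.pos m') h5
      · rw [← pow_mul] at h4
        have h5 := orderOf_dvd_of_pow_eq_one h4
        rw [hck', pow_succ, mul_comm] at h5
        exact Nat.dvd_of_mul_dvd_mul_right (pow_pos hs.pos m') h5
    · rw [hz, (hxy.pow_pow a b).mul_pow, ← pow_mul, ← pow_mul, mul_comm a, mul_comm b, pow_mul, pow_mul, hxk, hyk,
        one_pow, one_pow, one_mul]
  refine core h hQ i1 i2 hi1 hi2 hcomm z hzk V hV ρ ⟨w, ?_⟩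
  have h3 : ρ (i1 z) w = w := hw1
  have h4 : nrm ρ (i1 z) w = (s ^ m) • w := by
    unfold nrm
    rw [Finset.sum_congr rfl (fun i _ => rho_pow_fix ρ h3 i), Finset.sum_const, Finset.card_range,
      orderOf_injective i1 hi1, hzk]
  rw [h4]
  exact smul_ne_zero' ht hV (fun hd => hst ((Nat.prime_dvd_prime_iff_eq ht hs).1 (ht.dvd_of_dvd_pow hd)).symm) hw

end Cfsg.Agent.H427.Sp
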