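import Cfsg.Agent.H427.Sp.Chk

/-!
# Certificate tables (TEAM SPEC-ALT, task C3); generated by a dynamic programming script
-/

set_option autoImplicit false

namespace Cfsg.Agent.H427.Sp

def tabMain : List (ℕ × List (ℕ × Cert)) := [
  (2, [(15, .T ⟨2, 5, 1, 2, 2, 1⟩ []), (18, .T ⟨2, 5, 1, 2, 2, 1⟩ [.nc 3 1]), (31, .T ⟨2, 3, 2, 2, 3, 1⟩ []), (38, .T ⟨2, 3, 2, 2, 3, 1⟩ [.nc 7 1]), (63, .T ⟨2, 17, 1, 2, 4, 1⟩ []), (78, .T ⟨2, 17, 1, 2, 4, 1⟩ [.nc 3 1, .nc 5 1, .nc 7 1]), (132, .T ⟨2, 17, 1, 2, 4, 2⟩ [.nc 5 1]), (159, .T ⟨2, 17, 1, 2, 4, 2⟩ [.nc 3 3, .nc 5 1]), (267, .T ⟨2, 17, 1, 2, 4, 3⟩ [.nc 5 1, .nc 7 1]), (479, .T ⟨3, 257, 1, 2, 8, 0⟩ [])]),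
  (3, [(10, .N ⟨2, 5, 1, 2, 2, 1⟩ []), (12, .T ⟨1, 2, 2, 3, 1, 0⟩ [.blk ⟨3, 5, 1, 2, 2, 0⟩ [(5, 1)]]), (26, .T ⟨1, 2, 2, 3, 1, 1⟩ []), (37, .T ⟨1, 2, 2, 3, 1, 1⟩ [.blk ⟨1, 2, 3, 7, 1, 0⟩ [(11, 1)], .blk ⟨3, 5, 1, 2, 2, 0⟩ [(5, 1)]]), (80, .T ⟨1, 2, 2, 3, 1, 2⟩ []), (119, .T ⟨1, 2, 2, 3, 1, 2⟩ [.blk ⟨2, 17, 1, 2, 4, 1⟩ [(41, 1)], .blk ⟨1, 2, 3, 7, 1, 0⟩ [(7, 1)]]), (250, .T ⟨1, 2, 2, 3, 1, 3⟩ [.blk ⟨2, 5, 1, 2, 2, 1⟩ [(11, 1)]]), (377, .T ⟨1, 2, 2, 3, 1, 3⟩ [.blk ⟨1, 2, 7, 127, 1, 0⟩ [(137, 1)], .blk ⟨2, 5, 1, 2, 2, 1⟩ [(11, 1)]]), (479, .T ⟨1, 2, 2, 3, 1, 4⟩ [])]),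
  (5, [(24, .T ⟨0, 2, 1, 5, 1, 1⟩ []), (35, .T ⟨0, 2, 1, 5, 1, 1⟩ [.blk ⟨1, 2, 3, 7, 1, 0⟩ [(11, 1)], .blk ⟨2, 3, 1, 2, 1, 1⟩ [(2, 1), (3, 1)]]), (47, .T ⟨0, 2, 1, 5, 1, 1⟩ [.blk ⟨2, 3, 2, 2, 3, 1⟩ [(23, 1)], .blk ⟨1, 2, 3, 7, 1, 0⟩ [(7, 1)]]), (59, .T ⟨0, 2, 1, 5, 1, 1⟩ [.blk ⟨1, 2, 5, 31, 1, 0⟩ [(37, 1)], .blk ⟨2, 3, 1, 2, 1, 1⟩ [(2, 2)]]), (131, .T ⟨0, 2, 1, 5, 1, 2⟩ [.blk ⟨1, 2, 3, 7, 1, 0⟩ [(7, 1)]]), (198, .T ⟨0, 2, 1, 5, 1, 2⟩ [.blk ⟨2, 17, 1, 2, 4, 2⟩ [(79, 1)], .blk ⟨1, 2, 3, 7, 1, 0⟩ [(11, 1)], .nc 3 1]), (267, .T ⟨0, 2, 1, 5, 1, 2⟩ [.blk ⟨1, 2, 7, 127, 1, 0⟩ [(149, 1)], .blk ⟨2, 3, 2, 2, 3, 1⟩ [(17, 1)]]), (479, .T ⟨0, 2, 1, 5, 1, 3⟩ [])]),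
  (7, [(48, .T ⟨1, 2, 3, 7, 1, 0⟩ []), (83, .T ⟨1, 2, 3, 7, 1, 0⟩ [.blk ⟨2, 17, 1, 2, 4, 1⟩ [(37, 1)], .nc 3 1]), (363, .T ⟨1, 2, 3, 7, 1, 1⟩ [.blk ⟨2, 3, 2, 2, 3, 1⟩ [(23, 1)], .nc 5 1]), (479, .T ⟨1, 2, 3, 7, 1, 1⟩ [.blk ⟨3, 257, 1, 2, 8, 0⟩ [(137, 1)]])]),
  (11, [(18, .N ⟨2, 5, 1, 2, 2, 1⟩ []), (26, .N ⟨2, 3, 2, 2, 3, 1⟩ []), (123, .T ⟨0, 2, 1, 11, 1, 1⟩ [.blk ⟨1, 2, 2, 3, 1, 0⟩ [(3, 1)]]), (215, .T ⟨0, 2, 1, 11, 1, 1⟩ [.blk ⟨2, 17, 1, 2, 4, 2⟩ [(97, 1)], .blk ⟨1, 2, 5, 31, 1, 0⟩ [(31, 1)]]), (301, .T ⟨0, 2, 1, 11, 1, 1⟩ [.blk ⟨1, 2, 7, 127, 1, 0⟩ [(181, 1)], .blk ⟨1, 2, 3, 7, 1, 1⟩ [(59, 1)], .nc 5 1]), (479, .T ⟨0, 2, 1, 11, 1, 2⟩ [])]),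
  (13, [(22, .N ⟨1, 2, 3, 7, 1, 0⟩ [.blk ⟨1, 2, 2, 3, 1, 0⟩ [(3, 1)]]), (31, .N ⟨2, 3, 2, 2, 3, 1⟩ [.blk ⟨1, 2, 2, 3, 1, 0⟩ [(3, 1)]]), (172, .T ⟨0, 2, 1, 13, 1, 1⟩ [.blk ⟨2, 3, 1, 2, 1, 1⟩ [(5, 1)]]), (311, .T ⟨0, 2, 1, 13, 1, 1⟩ [.blk ⟨1, 2, 7, 127, 1, 0⟩ [(5, 3), (19, 1)], .blk ⟨2, 3, 2, 2, 3, 1⟩ [(17, 1)]]), (440, .T ⟨0, 2, 1, 13, 1, 1⟩ [.blk ⟨3, 257, 1, 2, 8, 0⟩ [(277, 1)], .blk ⟨1, 2, 2, 3, 1, 1⟩ [(17, 1)], .nc 7 1]), (479, .T ⟨0, 2, 1, 13, 1, 2⟩ [])]),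
  (17, [(27, .N ⟨1, 2, 2, 3, 1, 1⟩ [.blk ⟨3, 3, 1, 2, 1, 0⟩ [(5, 1)]]), (39, .N ⟨2, 3, 2, 2, 3, 1⟩ [.blk ⟨1, 2, 3, 7, 1, 0⟩ [(7, 1)]]), (292, .T ⟨0, 2, 1, 17, 1, 1⟩ [.blk ⟨2, 3, 1, 2, 1, 1⟩ [(5, 1)]]), (479, .T ⟨0, 2, 1, 17, 1, 1⟩ [.blk ⟨3, 257, 1, 2, 8, 0⟩ [(191, 1)]])]),
  (19, [(34, .N ⟨2, 3, 2, 2, 3, 1⟩ []), (50, .N ⟨2, 17, 1, 2, 4, 1⟩ []), (370, .T ⟨0, 2, 1, 19, 1, 1⟩ [.blk ⟨1, 2, 3, 7, 1, 0⟩ [(11, 1)], .blk ⟨1, 2, 2, 3, 1, 0⟩ [(3, 1)]]), (479, .T ⟨0, 2, 1, 19, 1, 1⟩ [.blk ⟨3, 257, 1, 2, 8, 0⟩ [(11, 2)]])]),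
  (23, [(41, .N ⟨2, 3, 2, 2, 3, 1⟩ [.blk ⟨1, 2, 2, 3, 1, 0⟩ [(3, 1)]]), (61, .N ⟨2, 17, 1, 2, 4, 1⟩ [.blk ⟨1, 2, 3, 7, 1, 0⟩ [(7, 1)]]), (479, .T ⟨0, 2, 1, 23, 1, 1⟩ [])]),
  (29, [(51, .N ⟨2, 3, 2, 2, 3, 1⟩ [.blk ⟨1, 2, 3, 7, 1, 0⟩ [(7, 1)]]), (75, .N ⟨1, 2, 5, 31, 1, 0⟩ [.blk ⟨2, 3, 2, 2, 3, 1⟩ [(17, 1)]]), (479, .T ⟨0, 2, 1, 29, 1, 1⟩ [])]),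
  (31, [(55, .N ⟨2, 3, 2, 2, 3, 1⟩ [.blk ⟨1, 2, 2, 3, 1, 1⟩ [(3, 2)]]), (479, .T ⟨1, 2, 5, 31, 1, 0⟩ [])]),
  (37, [(70, .N ⟨1, 2, 5, 31, 1, 0⟩ [.blk ⟨1, 2, 2, 3, 1, 0⟩ [(3, 1)]]), (100, .N ⟨2, 17, 1, 2, 4, 2⟩ []), (479, .T ⟨0, 2, 1, 37, 1, 1⟩ [])]),
  (41, [(78, .N ⟨1, 2, 5, 31, 1, 0⟩ [.blk ⟨1, 2, 3, 7, 1, 0⟩ [(7, 1)]]), (111, .N ⟨2, 17, 1, 2, 4, 2⟩ [.blk ⟨1, 2, 3, 7, 1, 0⟩ [(7, 1)]]), (479, .T ⟨0, 2, 1, 41, 1, 1⟩ [])]),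
  (43, [(81, .N ⟨2, 17, 1, 2, 4, 1⟩ [.blk ⟨1, 2, 3, 7, 1, 0⟩ [(7, 1)]]), (116, .N ⟨2, 17, 1, 2, 4, 2⟩ [.blk ⟨1, 2, 3, 7, 1, 0⟩ [(11, 1)], .nc 3 1]), (479, .T ⟨0, 2, 1, 43, 1, 1⟩ [])]),
  (47, [(87, .N ⟨2, 17, 1, 2, 4, 1⟩ [.blk ⟨1, 2, 2, 3, 1, 1⟩ [(3, 2)]]), (126, .N ⟨1, 2, 3, 7, 1, 1⟩ [.blk ⟨1, 2, 5, 31, 1, 0⟩ [(31, 1)]]), (479, .T ⟨0, 2, 1, 47, 1, 1⟩ [])]),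
  (53, [(99, .N ⟨1, 2, 5, 31, 1, 0⟩ [.blk ⟨2, 3, 2, 2, 3, 1⟩ [(17, 1)]]), (147, .N ⟨2, 17, 1, 2, 4, 2⟩ [.blk ⟨1, 2, 5, 31, 1, 0⟩ [(31, 1)]]), (479, .T ⟨0, 2, 1, 53, 1, 1⟩ [])]),
  (59, [(108, .N ⟨1, 2, 5, 31, 1, 0⟩ [.blk ⟨2, 3, 2, 2, 3, 1⟩ [(19, 1)], .nc 3 1]), (156, .N ⟨2, 17, 1, 2, 4, 2⟩ [.blk ⟨1, 2, 5, 31, 1, 0⟩ [(37, 1)], .nc 3 1]), (479, .T ⟨0, 2, 1, 59, 1, 1⟩ [])]),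
  (61, [(112, .N ⟨1, 2, 3, 7, 1, 1⟩ [.blk ⟨1, 2, 2, 3, 1, 0⟩ [(3, 1)]]), (160, .N ⟨2, 17, 1, 2, 4, 2⟩ [.blk ⟨1, 2, 5, 31, 1, 0⟩ [(37, 1)], .nc 5 1]), (479, .T ⟨0, 2, 1, 61, 1, 1⟩ [])]),
  (67, [(129, .N ⟨2, 17, 1, 2, 4, 1⟩ [.blk ⟨1, 2, 5, 31, 1, 0⟩ [(31, 1)]]), (193, .N ⟨1, 2, 7, 127, 1, 0⟩ []), (479, .T ⟨0, 2, 1, 67, 1, 1⟩ [])]),
  (71, [(134, .N ⟨2, 17, 1, 2, 4, 2⟩ []), (201, .N ⟨1, 2, 7, 127, 1, 0⟩ [.blk ⟨2, 3, 1, 2, 1, 1⟩ [(5, 1)]]), (479, .T ⟨0, 2, 1, 71, 1, 1⟩ [])]),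
  (73, [(139, .N ⟨2, 17, 1, 2, 4, 2⟩ [.blk ⟨1, 2, 2, 3, 1, 0⟩ [(3, 1)]]), (208, .N ⟨1, 2, 7, 127, 1, 0⟩ [.blk ⟨1, 2, 2, 3, 1, 1⟩ [(3, 2)]]), (479, .T ⟨0, 2, 1, 73, 1, 1⟩ [])]),
  (79, [(149, .N ⟨2, 17, 1, 2, 4, 2⟩ [.blk ⟨1, 2, 3, 7, 1, 0⟩ [(7, 1)]]), (221, .N ⟨1, 2, 7, 127, 1, 0⟩ [.blk ⟨2, 3, 2, 2, 3, 1⟩ [(17, 1)]]), (479, .T ⟨0, 2, 1, 79, 1, 1⟩ [])]),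
  (83, [(156, .N ⟨2, 17, 1, 2, 4, 2⟩ [.blk ⟨1, 2, 3, 7, 1, 0⟩ [(11, 1)], .nc 3 1]), (230, .N ⟨1, 2, 7, 127, 1, 0⟩ [.blk ⟨2, 3, 2, 2, 3, 1⟩ [(23, 1)], .nc 5 1]), (479, .T ⟨0, 2, 1, 83, 1, 1⟩ [])]),
  (89, [(168, .N ⟨1, 2, 3, 7, 1, 1⟩ [.blk ⟨1, 2, 5, 31, 1, 0⟩ [(31, 1)]]), (250, .N ⟨1, 2, 7, 127, 1, 0⟩ [.blk ⟨2, 17, 1, 2, 4, 1⟩ [(37, 1)], .nc 3 1]), (479, .T ⟨0, 2, 1, 89, 1, 1⟩ [])]),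
  (97, [(180, .N ⟨1, 2, 3, 7, 1, 1⟩ [.blk ⟨2, 17, 1, 2, 4, 1⟩ [(37, 1)], .nc 3 1]), (264, .N ⟨1, 2, 7, 127, 1, 0⟩ [.blk ⟨2, 17, 1, 2, 4, 1⟩ [(41, 1)], .nc 3 2]), (479, .T ⟨0, 2, 1, 97, 1, 1⟩ [])]),
  (101, [(195, .N ⟨2, 17, 1, 2, 4, 2⟩ [.blk ⟨1, 2, 5, 31, 1, 0⟩ [(31, 1)]]), (291, .N ⟨1, 2, 7, 127, 1, 0⟩ [.blk ⟨2, 17, 1, 2, 4, 2⟩ [(67, 1)]]), (479, .T ⟨0, 2, 1, 101, 1, 1⟩ [])]),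
  (103, [(197, .N ⟨2, 17, 1, 2, 4, 2⟩ [.blk ⟨1, 2, 5, 31, 1, 0⟩ [(31, 1)]]), (293, .N ⟨1, 2, 7, 127, 1, 0⟩ [.blk ⟨2, 17, 1, 2, 4, 2⟩ [(67, 1)]]), (479, .T ⟨0, 2, 1, 103, 1, 1⟩ [])]),
  (107, [(204, .N ⟨2, 17, 1, 2, 4, 2⟩ [.blk ⟨1, 2, 5, 31, 1, 0⟩ [(37, 1)], .nc 3 1]), (300, .N ⟨1, 2, 7, 127, 1, 0⟩ [.blk ⟨2, 17, 1, 2, 4, 2⟩ [(67, 1)], .nc 3 1]), (479, .T ⟨0, 2, 1, 107, 1, 1⟩ [])]),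
  (109, [(206, .N ⟨2, 17, 1, 2, 4, 2⟩ [.blk ⟨1, 2, 5, 31, 1, 0⟩ [(37, 1)], .nc 3 1]), (304, .N ⟨1, 2, 7, 127, 1, 0⟩ [.blk ⟨2, 17, 1, 2, 4, 2⟩ [(71, 1)], .nc 5 1]), (479, .T ⟨0, 2, 1, 109, 1, 1⟩ [])]),
  (113, [(212, .N ⟨2, 17, 1, 2, 4, 2⟩ [.blk ⟨1, 2, 5, 31, 1, 0⟩ [(37, 1)], .nc 5 1]), (311, .N ⟨1, 2, 7, 127, 1, 0⟩ [.blk ⟨2, 17, 1, 2, 4, 2⟩ [(73, 1)], .nc 3 1, .nc 5 1]), (479, .T ⟨0, 2, 1, 113, 1, 1⟩ [])]),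
  (127, [(239, .N ⟨2, 17, 1, 2, 4, 2⟩ [.blk ⟨1, 2, 3, 7, 1, 1⟩ [(7, 2)]]), (479, .T ⟨1, 2, 7, 127, 1, 0⟩ [])]),
  (131, [(257, .N ⟨1, 2, 7, 127, 1, 0⟩ []), (352, .N ⟨1, 2, 7, 127, 1, 0⟩ [.blk ⟨2, 17, 1, 2, 4, 2⟩ [(97, 1)], .nc 31 1]), (479, .T ⟨0, 2, 1, 131, 1, 1⟩ [])]),
  (137, [(270, .N ⟨1, 2, 7, 127, 1, 0⟩ [.blk ⟨1, 2, 3, 7, 1, 0⟩ [(7, 1)]]), (401, .N ⟨3, 257, 1, 2, 8, 0⟩ [.blk ⟨1, 2, 2, 3, 1, 1⟩ [(3, 2)]]), (479, .T ⟨0, 2, 1, 137, 1, 1⟩ [])]),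
  (139, [(273, .N ⟨1, 2, 7, 127, 1, 0⟩ [.blk ⟨2, 5, 1, 2, 2, 1⟩ [(3, 2)]]), (404, .N ⟨3, 257, 1, 2, 8, 0⟩ [.blk ⟨1, 2, 3, 7, 1, 0⟩ [(11, 1)], .nc 3 1]), (479, .T ⟨0, 2, 1, 139, 1, 1⟩ [])]),
  (149, [(291, .N ⟨1, 2, 7, 127, 1, 0⟩ [.blk ⟨2, 3, 2, 2, 3, 1⟩ [(17, 1)]]), (435, .N ⟨3, 257, 1, 2, 8, 0⟩ [.blk ⟨1, 2, 5, 31, 1, 0⟩ [(31, 1)]]), (479, .T ⟨0, 2, 1, 149, 1, 1⟩ [])]),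
  (151, [(293, .N ⟨1, 2, 7, 127, 1, 0⟩ [.blk ⟨2, 3, 2, 2, 3, 1⟩ [(17, 1)]]), (437, .N ⟨3, 257, 1, 2, 8, 0⟩ [.blk ⟨1, 2, 5, 31, 1, 0⟩ [(31, 1)]]), (479, .T ⟨0, 2, 1, 151, 1, 1⟩ [])]),
  (157, [(304, .N ⟨1, 2, 7, 127, 1, 0⟩ [.blk ⟨2, 3, 2, 2, 3, 1⟩ [(23, 1)], .nc 5 1]), (450, .N ⟨3, 257, 1, 2, 8, 0⟩ [.blk ⟨1, 2, 5, 31, 1, 0⟩ [(41, 1)], .nc 7 1]), (479, .T ⟨0, 2, 1, 157, 1, 1⟩ [])]),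
  (163, [(321, .N ⟨1, 2, 7, 127, 1, 0⟩ [.blk ⟨2, 17, 1, 2, 4, 1⟩ [(3, 3), (5, 1)]]), (470, .N ⟨3, 257, 1, 2, 8, 0⟩ [.blk ⟨1, 2, 3, 7, 1, 1⟩ [(53, 1)], .nc 3 1]), (479, .T ⟨0, 2, 1, 163, 1, 1⟩ [])]),
  (167, [(327, .N ⟨1, 2, 7, 127, 1, 0⟩ [.blk ⟨1, 2, 5, 31, 1, 0⟩ [(37, 1)], .nc 3 1]), (476, .N ⟨3, 257, 1, 2, 8, 0⟩ [.blk ⟨1, 2, 3, 7, 1, 1⟩ [(59, 1)], .nc 5 1]), (479, .T ⟨0, 2, 1, 167, 1, 1⟩ [])]),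
  (173, [(336, .N ⟨1, 2, 7, 127, 1, 0⟩ [.blk ⟨2, 17, 1, 2, 4, 1⟩ [(37, 1)], .nc 5 1]), (479, .N ⟨3, 257, 1, 2, 8, 0⟩ [.blk ⟨1, 2, 3, 7, 1, 1⟩ [(53, 1)], .nc 11 1])]),
  (179, [(345, .N ⟨1, 2, 7, 127, 1, 0⟩ [.blk ⟨2, 17, 1, 2, 4, 1⟩ [(41, 1)], .nc 3 1, .nc 5 1]), (479, .N ⟨3, 257, 1, 2, 8, 0⟩ [.blk ⟨1, 2, 3, 7, 1, 1⟩ [(47, 1)]])]),
  (181, [(348, .N ⟨1, 2, 7, 127, 1, 0⟩ [.blk ⟨2, 17, 1, 2, 4, 1⟩ [(41, 1)], .nc 3 2]), (479, .N ⟨3, 257, 1, 2, 8, 0⟩ [.blk ⟨1, 2, 3, 7, 1, 1⟩ [(43, 1)]])]),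
  (191, [(369, .N ⟨1, 2, 7, 127, 1, 0⟩ [.blk ⟨1, 2, 3, 7, 1, 1⟩ [(53, 1)], .nc 3 1]), (479, .N ⟨3, 257, 1, 2, 8, 0⟩ [.blk ⟨1, 2, 2, 3, 1, 3⟩ [(37, 1)]])]),
  (193, [(371, .N ⟨1, 2, 7, 127, 1, 0⟩ [.blk ⟨1, 2, 3, 7, 1, 1⟩ [(53, 1)], .nc 3 1]), (479, .N ⟨3, 257, 1, 2, 8, 0⟩ [.blk ⟨1, 2, 2, 3, 1, 3⟩ [(31, 1)]])]),
  (197, [(387, .N ⟨1, 2, 7, 127, 1, 0⟩ [.blk ⟨2, 17, 1, 2, 4, 2⟩ [(67, 1)]]), (479, .N ⟨3, 257, 1, 2, 8, 0⟩ [.blk ⟨1, 2, 7, 127, 1, 0⟩ [(3, 3)]])]),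
  (199, [(389, .N ⟨1, 2, 7, 127, 1, 0⟩ [.blk ⟨2, 17, 1, 2, 4, 2⟩ [(67, 1)]]), (479, .N ⟨3, 257, 1, 2, 8, 0⟩ [.blk ⟨1, 2, 7, 127, 1, 0⟩ [(5, 2)]])]),
  (211, [(408, .N ⟨1, 2, 7, 127, 1, 0⟩ [.blk ⟨2, 17, 1, 2, 4, 2⟩ [(71, 1)], .nc 7 1]), (479, .N ⟨3, 257, 1, 2, 8, 0⟩ [.blk ⟨1, 2, 7, 127, 1, 0⟩ [(13, 1)]])]),
  (223, [(426, .N ⟨1, 2, 7, 127, 1, 0⟩ [.blk ⟨2, 17, 1, 2, 4, 2⟩ [(79, 1)], .nc 13 1]), (479, .N ⟨3, 257, 1, 2, 8, 0⟩ [.blk ⟨1, 2, 7, 127, 1, 0⟩ [(3, 1)]])]),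
  (227, [(432, .N ⟨1, 2, 7, 127, 1, 0⟩ [.blk ⟨2, 17, 1, 2, 4, 2⟩ [(79, 1)], .nc 3 1, .nc 5 1, .nc 7 1]), (479, .N ⟨3, 257, 1, 2, 8, 0⟩ [])]),
  (229, [(435, .N ⟨1, 2, 7, 127, 1, 0⟩ [.blk ⟨2, 17, 1, 2, 4, 2⟩ [(3, 4)], .nc 3 2, .nc 7 1]), (479, .N ⟨3, 257, 1, 2, 8, 0⟩ [])]),
  (233, [(441, .N ⟨1, 2, 7, 127, 1, 0⟩ [.blk ⟨2, 17, 1, 2, 4, 2⟩ [(83, 1)], .nc 7 1, .nc 11 1]), (479, .N ⟨3, 257, 1, 2, 8, 0⟩ [])]),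
  (239, [(450, .N ⟨1, 2, 7, 127, 1, 0⟩ [.blk ⟨2, 17, 1, 2, 4, 2⟩ [(89, 1)], .nc 3 2, .nc 5 1, .nc 7 1]), (479, .N ⟨3, 257, 1, 2, 8, 0⟩ [])]),
  (241, [(453, .N ⟨1, 2, 7, 127, 1, 0⟩ [.blk ⟨2, 17, 1, 2, 4, 2⟩ [(89, 1)], .nc 3 2, .nc 13 1]), (479, .N ⟨3, 257, 1, 2, 8, 0⟩ [])]),
  (251, [(468, .N ⟨1, 2, 7, 127, 1, 0⟩ [.blk ⟨2, 17, 1, 2, 4, 2⟩ [(97, 1)], .nc 3 3]), (479, .N ⟨3, 257, 1, 2, 8, 0⟩ [])]),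
  (257, [(477, .N ⟨1, 2, 7, 127, 1, 0⟩ [.blk ⟨2, 17, 1, 2, 4, 2⟩ [(97, 1)], .nc 13 1, .nc 17 1]), (479, .N ⟨2, 17, 1, 2, 4, 4⟩ [])]),
  (263, [(479, .N ⟨1, 2, 2, 3, 1, 0⟩ [.blk ⟨3, 257, 1, 2, 8, 0⟩ [(223, 1)]])]),
  (269, [(479, .N ⟨3, 257, 1, 2, 8, 0⟩ [])]),
  (271, [(479, .N ⟨3, 257, 1, 2, 8, 0⟩ [])]),
  (277, [(479, .N ⟨3, 257, 1, 2, 8, 0⟩ [])]),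
  (281, [(479, .N ⟨3, 257, 1, 2, 8, 0⟩ [])]),
  (283, [(479, .N ⟨3, 257, 1, 2, 8, 0⟩ [])]),
  (293, [(479, .N ⟨3, 257, 1, 2, 8, 0⟩ [])]),
  (307, [(479, .N ⟨3, 257, 1, 2, 8, 0⟩ [])]),
  (311, [(479, .N ⟨3, 257, 1, 2, 8, 0⟩ [])]),
  (313, [(479, .N ⟨3, 257, 1, 2, 8, 0⟩ [])]),
  (317, [(479, .N ⟨3, 257, 1, 2, 8, 0⟩ [])]),
  (331, [(479, .N ⟨3, 257, 1, 2, 8, 0⟩ [])]),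
  (337, [(479, .N ⟨3, 257, 1, 2, 8, 0⟩ [])]),
  (347, [(479, .N ⟨3, 257, 1, 2, 8, 0⟩ [])]),
  (349, [(479, .N ⟨3, 257, 1, 2, 8, 0⟩ [])]),
  (353, [(479, .N ⟨3, 257, 1, 2, 8, 0⟩ [])]),
  (359, [(479, .N ⟨3, 257, 1, 2, 8, 0⟩ [])]),
  (367, [(479, .N ⟨3, 257, 1, 2, 8, 0⟩ [])]),
  (373, [(479, .N ⟨3, 257, 1, 2, 8, 0⟩ [])]),
  (379, [(479, .N ⟨3, 257, 1, 2, 8, 0⟩ [])]),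
  (383, [(479, .N ⟨3, 257, 1, 2, 8, 0⟩ [])]),
  (389, [(479, .N ⟨3, 257, 1, 2, 8, 0⟩ [])]),
  (397, [(479, .N ⟨3, 257, 1, 2, 8, 0⟩ [])]),
  (401, [(479, .N ⟨3, 257, 1, 2, 8, 0⟩ [])]),
  (409, [(479, .N ⟨3, 257, 1, 2, 8, 0⟩ [])]),
  (419, [(479, .N ⟨3, 257, 1, 2, 8, 0⟩ [])]),
  (421, [(479, .N ⟨3, 257, 1, 2, 8, 0⟩ [])]),
  (431, [(479, .N ⟨3, 257, 1, 2, 8, 0⟩ [])]),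
  (433, [(479, .N ⟨3, 257, 1, 2, 8, 0⟩ [])]),
  (439, [(479, .N ⟨3, 257, 1, 2, 8, 0⟩ [])]),
  (443, [(479, .N ⟨3, 257, 1, 2, 8, 0⟩ [])]),
  (449, [(479, .N ⟨3, 257, 1, 2, 8, 0⟩ [])]),
  (457, [(479, .N ⟨3, 257, 1, 2, 8, 0⟩ [])]),
  (461, [(479, .N ⟨3, 257, 1, 2, 8, 0⟩ [])]),
  (463, [(479, .N ⟨3, 257, 1, 2, 8, 0⟩ [])]),
  (467, [(479, .N ⟨3, 257, 1, 2, 8, 0⟩ [])]),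
  (479, [(479, .N ⟨3, 257, 1, 2, 8, 0⟩ [])])]

theorem tabMain_ok : covAll 0 1 10 480 480 tabMain = true := by decide +kernel

def tabC7 : List (ℕ × List (ℕ × Cert)) := [
  (2, [(7, .T ⟨2, 3, 1, 2, 1, 1⟩ [])]),
  (3, [(7, .T ⟨1, 2, 2, 3, 1, 0⟩ [])]),
  (5, [(7, .N ⟨2, 3, 1, 2, 1, 1⟩ [])]),
  (7, [(7, .N ⟨2, 3, 1, 2, 1, 1⟩ [])])]

theorem tabC7_ok : covAll 0 1 7 8 8 tabC7 = true := by decide +kernel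

def tabD11 : List (ℕ × List (ℕ × Cert)) := [
  (2, [(11, .T ⟨2, 5, 1, 2, 2, 1⟩ [])]),
  (3, [(11, .T ⟨1, 2, 2, 3, 1, 0⟩ [.blk ⟨3, 5, 1, 2, 2, 0⟩ [(5, 1)]])]),
  (5, [(11, .T ⟨0, 2, 1, 5, 1, 1⟩ [])]),
  (7, [(11, .T ⟨1, 2, 3, 7, 1, 0⟩ [])]),
  (11, [(11, .N ⟨2, 5, 1, 2, 2, 1⟩ [])])]

theorem tabD11_ok : covAll 0 2 11 12 13 tabD11 = true := by decide +kernel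

def tabD13 : List (ℕ × List (ℕ × Cert)) := [
  (2, [(13, .T ⟨2, 5, 1, 2, 2, 1⟩ [])]),
  (3, [(13, .T ⟨1, 2, 2, 3, 1, 1⟩ [])]),
  (5, [(13, .T ⟨0, 2, 1, 5, 1, 1⟩ [])]),
  (7, [(13, .T ⟨1, 2, 3, 7, 1, 0⟩ [])]),
  (11, [(13, .N ⟨1, 2, 3, 7, 1, 0⟩ [])]),
  (13, [(13, .N ⟨1, 2, 3, 7, 1, 0⟩ [])])]

theorem tabD13_ok : covAll 0 2 13 14 15 tabD13 = true := by decide +kernel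

def tabD14 : List (ℕ × List (ℕ × Cert)) := [
  (2, [(14, .T ⟨2, 5, 1, 2, 2, 1⟩ [])]),
  (3, [(14, .T ⟨1, 2, 2, 3, 1, 1⟩ [])]),
  (5, [(14, .T ⟨0, 2, 1, 5, 1, 1⟩ [])]),
  (7, [(14, .T ⟨1, 2, 3, 7, 1, 0⟩ [])]),
  (11, [(14, .N ⟨1, 2, 3, 7, 1, 0⟩ [])]),
  (13, [(14, .N ⟨1, 2, 3, 7, 1, 0⟩ [])])]

theorem tabD14_ok : covAll 0 2 14 15 16 tabD14 = true := by decide +kernel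

def tabD17 : List (ℕ × List (ℕ × Cert)) := [
  (2, [(17, .T ⟨2, 5, 1, 2, 2, 1⟩ [.nc 3 1])]),
  (3, [(17, .T ⟨1, 2, 2, 3, 1, 1⟩ [])]),
  (5, [(17, .T ⟨0, 2, 1, 5, 1, 1⟩ [])]),
  (7, [(17, .T ⟨1, 2, 3, 7, 1, 0⟩ [])]),
  (11, [(17, .N ⟨1, 2, 3, 7, 1, 0⟩ [.blk ⟨1, 2, 2, 3, 1, 0⟩ [(3, 1)]])]),
  (13, [(17, .N ⟨1, 2, 3, 7, 1, 0⟩ [])]),
  (17, [(17, .N ⟨1, 2, 3, 7, 1, 0⟩ [])])]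

theorem tabD17_ok : covAll 0 2 17 18 19 tabD17 = true := by decide +kernel

def tabD19 : List (ℕ × List (ℕ × Cert)) := [
  (2, [(19, .T ⟨2, 3, 2, 2, 3, 1⟩ [])]),
  (3, [(19, .T ⟨1, 2, 2, 3, 1, 1⟩ [])]),
  (5, [(19, .T ⟨0, 2, 1, 5, 1, 1⟩ [])]),
  (7, [(19, .T ⟨1, 2, 3, 7, 1, 0⟩ [])]),
  (11, [(19, .N ⟨2, 3, 2, 2, 3, 1⟩ [])]),
  (13, [(19, .N ⟨2, 3, 2, 2, 3, 1⟩ [])]),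
  (17, [(19, .N ⟨2, 3, 2, 2, 3, 1⟩ [])]),
  (19, [(19, .N ⟨2, 3, 2, 2, 3, 1⟩ [])])]

theorem tabD19_ok : covAll 0 2 19 20 21 tabD19 = true := by decide +kernel

def tabD20 : List (ℕ × List (ℕ × Cert)) := [
  (2, [(20, .T ⟨2, 3, 2, 2, 3, 1⟩ [])]),
  (3, [(20, .T ⟨1, 2, 2, 3, 1, 1⟩ [])]),
  (5, [(20, .T ⟨0, 2, 1, 5, 1, 1⟩ [])]),
  (7, [(20, .T ⟨1, 2, 3, 7, 1, 0⟩ [])]),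
  (11, [(20, .N ⟨2, 3, 2, 2, 3, 1⟩ [])]),
  (13, [(20, .N ⟨2, 3, 2, 2, 3, 1⟩ [])]),
  (17, [(20, .N ⟨2, 3, 2, 2, 3, 1⟩ [])]),
  (19, [(20, .N ⟨2, 3, 2, 2, 3, 1⟩ [])])]

theorem tabD20_ok : covAll 0 2 20 21 22 tabD20 = true := by decide +kernel

def tabD23 : List (ℕ × List (ℕ × Cert)) := [
  (2, [(23, .T ⟨2, 3, 2, 2, 3, 1⟩ [])]),
  (3, [(23, .T ⟨1, 2, 2, 3, 1, 1⟩ [])]),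
  (5, [(23, .T ⟨0, 2, 1, 5, 1, 1⟩ [])]),
  (7, [(23, .T ⟨1, 2, 3, 7, 1, 0⟩ [])]),
  (11, [(23, .T ⟨0, 2, 1, 11, 1, 1⟩ [])]),
  (13, [(23, .N ⟨2, 3, 2, 2, 3, 1⟩ [])]),
  (17, [(23, .N ⟨2, 3, 2, 2, 3, 1⟩ [])]),
  (19, [(23, .N ⟨2, 3, 2, 2, 3, 1⟩ [])]),
  (23, [(23, .N ⟨2, 3, 2, 2, 3, 1⟩ [])])]

theorem tabD23_ok : covAll 0 2 23 24 25 tabD23 = true := by decide +kernel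

def tabD24 : List (ℕ × List (ℕ × Cert)) := [
  (2, [(24, .T ⟨2, 3, 2, 2, 3, 1⟩ [])]),
  (3, [(24, .T ⟨1, 2, 2, 3, 1, 1⟩ [])]),
  (5, [(24, .T ⟨0, 2, 1, 5, 1, 1⟩ [.blk ⟨1, 2, 3, 7, 1, 0⟩ [(3, 1)]])]),
  (7, [(24, .T ⟨1, 2, 3, 7, 1, 0⟩ [])]),
  (11, [(24, .T ⟨0, 2, 1, 11, 1, 1⟩ [])]),
  (13, [(24, .N ⟨2, 3, 2, 2, 3, 1⟩ [])]),
  (17, [(24, .N ⟨2, 3, 2, 2, 3, 1⟩ [])]),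
  (19, [(24, .N ⟨2, 3, 2, 2, 3, 1⟩ [])]),
  (23, [(24, .N ⟨2, 3, 2, 2, 3, 1⟩ [])])]

theorem tabD24_ok : covAll 0 2 24 25 26 tabD24 = true := by decide +kernel

def tabD26 : List (ℕ × List (ℕ × Cert)) := [
  (2, [(26, .T ⟨2, 3, 2, 2, 3, 1⟩ [])]),
  (3, [(26, .T ⟨1, 2, 2, 3, 1, 1⟩ [.blk ⟨2, 5, 1, 2, 2, 1⟩ [(5, 1)]])]),
  (5, [(26, .T ⟨0, 2, 1, 5, 1, 1⟩ [.blk ⟨3, 3, 2, 2, 3, 0⟩ [(3, 1)]])]),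
  (7, [(26, .T ⟨1, 2, 3, 7, 1, 0⟩ [])]),
  (11, [(26, .T ⟨0, 2, 1, 11, 1, 1⟩ [])]),
  (13, [(26, .T ⟨0, 2, 1, 13, 1, 1⟩ [])]),
  (17, [(26, .N ⟨2, 3, 2, 2, 3, 1⟩ [])]),
  (19, [(26, .N ⟨2, 3, 2, 2, 3, 1⟩ [])]),
  (23, [(26, .N ⟨2, 3, 2, 2, 3, 1⟩ [])])]

theorem tabD26_ok : covAll 0 2 26 27 28 tabD26 = true := by decide +kernel

def tabD29 : List (ℕ × List (ℕ × Cert)) := [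
  (2, [(29, .T ⟨2, 3, 2, 2, 3, 1⟩ [])]),
  (3, [(29, .T ⟨1, 2, 2, 3, 1, 1⟩ [.blk ⟨1, 2, 3, 7, 1, 0⟩ [(5, 1)]])]),
  (5, [(29, .T ⟨0, 2, 1, 5, 1, 1⟩ [.blk ⟨2, 3, 2, 2, 3, 1⟩ [(7, 1)]])]),
  (7, [(29, .T ⟨1, 2, 3, 7, 1, 0⟩ [])]),
  (11, [(29, .T ⟨0, 2, 1, 11, 1, 1⟩ [])]),
  (13, [(29, .T ⟨0, 2, 1, 13, 1, 1⟩ [])]),
  (17, [(29, .N ⟨2, 3, 2, 2, 3, 1⟩ [])]),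
  (19, [(29, .N ⟨2, 3, 2, 2, 3, 1⟩ [])]),
  (23, [(29, .N ⟨2, 3, 2, 2, 3, 1⟩ [])]),
  (29, [(29, .N ⟨2, 3, 2, 2, 3, 1⟩ [])])]

theorem tabD29_ok : covAll 0 2 29 30 31 tabD29 = true := by decide +kernel

def tabE13 : List (ℕ × List (ℕ × Cert)) := [
  (2, [(13, .T ⟨2, 5, 1, 2, 2, 1⟩ [])]),
  (3, [(13, .T ⟨1, 2, 2, 3, 1, 1⟩ [])]),
  (5, [(13, .T ⟨0, 2, 1, 5, 1, 1⟩ [])]),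
  (7, [(13, .T ⟨1, 2, 3, 7, 1, 0⟩ [])]),
  (11, [(13, .N ⟨1, 2, 3, 7, 1, 0⟩ [])]),
  (13, [(13, .N ⟨1, 2, 3, 7, 1, 0⟩ [])])]

theorem tabE13_ok : covAll 0 3 13 14 16 tabE13 = true := by decide +kernel

def tabE19 : List (ℕ × List (ℕ × Cert)) := [
  (2, [(19, .T ⟨2, 3, 2, 2, 3, 1⟩ [])]),
  (3, [(19, .T ⟨1, 2, 2, 3, 1, 1⟩ [])]),
  (5, [(19, .T ⟨0, 2, 1, 5, 1, 1⟩ [])]),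
  (7, [(19, .T ⟨1, 2, 3, 7, 1, 0⟩ [])]),
  (11, [(19, .N ⟨2, 3, 2, 2, 3, 1⟩ [])]),
  (13, [(19, .N ⟨2, 3, 2, 2, 3, 1⟩ [])]),
  (17, [(19, .N ⟨2, 3, 2, 2, 3, 1⟩ [])]),
  (19, [(19, .N ⟨2, 3, 2, 2, 3, 1⟩ [])])]

theorem tabE19_ok : covAll 0 3 19 20 22 tabE19 = true := by decide +kernel

def tabE20 : List (ℕ × List (ℕ × Cert)) := [
  (2, [(20, .T ⟨2, 3, 2, 2, 3, 1⟩ [])]),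
  (3, [(20, .T ⟨1, 2, 2, 3, 1, 1⟩ [])]),
  (5, [(20, .T ⟨0, 2, 1, 5, 1, 1⟩ [])]),
  (7, [(20, .T ⟨1, 2, 3, 7, 1, 0⟩ [])]),
  (11, [(20, .N ⟨2, 3, 2, 2, 3, 1⟩ [])]),
  (13, [(20, .N ⟨2, 3, 2, 2, 3, 1⟩ [])]),
  (17, [(20, .N ⟨2, 3, 2, 2, 3, 1⟩ [])]),
  (19, [(20, .N ⟨2, 3, 2, 2, 3, 1⟩ [])])]

theorem tabE20_ok : covAll 0 3 20 21 23 tabE20 = true := by decide +kernel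

def tabE23 : List (ℕ × List (ℕ × Cert)) := [
  (2, [(23, .T ⟨2, 3, 2, 2, 3, 1⟩ [])]),
  (3, [(23, .T ⟨1, 2, 2, 3, 1, 1⟩ [])]),
  (5, [(23, .T ⟨0, 2, 1, 5, 1, 1⟩ [.blk ⟨1, 2, 3, 7, 1, 0⟩ [(3, 1)]])]),
  (7, [(23, .T ⟨1, 2, 3, 7, 1, 0⟩ [])]),
  (11, [(23, .T ⟨0, 2, 1, 11, 1, 1⟩ [])]),
  (13, [(23, .N ⟨2, 3, 2, 2, 3, 1⟩ [])]),
  (17, [(23, .N ⟨2, 3, 2, 2, 3, 1⟩ [])]),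
  (19, [(23, .N ⟨2, 3, 2, 2, 3, 1⟩ [])]),
  (23, [(23, .N ⟨2, 3, 2, 2, 3, 1⟩ [])])]

theorem tabE23_ok : covAll 0 3 23 24 26 tabE23 = true := by decide +kernel

def tabE25 : List (ℕ × List (ℕ × Cert)) := [
  (2, [(25, .T ⟨2, 3, 2, 2, 3, 1⟩ [])]),
  (3, [(25, .T ⟨1, 2, 2, 3, 1, 1⟩ [.blk ⟨2, 5, 1, 2, 2, 1⟩ [(5, 1)]])]),
  (5, [(25, .T ⟨0, 2, 1, 5, 1, 1⟩ [.blk ⟨1, 2, 3, 7, 1, 0⟩ [(3, 1)]])]),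
  (7, [(25, .T ⟨1, 2, 3, 7, 1, 0⟩ [])]),
  (11, [(25, .T ⟨0, 2, 1, 11, 1, 1⟩ [])]),
  (13, [(25, .N ⟨2, 3, 2, 2, 3, 1⟩ [])]),
  (17, [(25, .N ⟨2, 3, 2, 2, 3, 1⟩ [])]),
  (19, [(25, .N ⟨2, 3, 2, 2, 3, 1⟩ [])]),
  (23, [(25, .N ⟨2, 3, 2, 2, 3, 1⟩ [])])]

theorem tabE25_ok : covAll 0 3 25 26 28 tabE25 = true := by decide +kernel

def tabF : List (ℕ × List (ℕ × Cert)) := [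
  (2, [(26, .T ⟨2, 3, 2, 2, 3, 1⟩ []), (28, .T ⟨2, 3, 2, 2, 3, 1⟩ [.nc 3 1])]),
  (3, [(25, .T ⟨1, 2, 2, 3, 1, 1⟩ [.blk ⟨3, 5, 1, 2, 2, 0⟩ [(5, 1)]]), (28, .T ⟨1, 2, 2, 3, 1, 1⟩ [.blk ⟨2, 5, 1, 2, 2, 1⟩ [(7, 1)]])]),
  (5, [(26, .T ⟨0, 2, 1, 5, 1, 1⟩ [.blk ⟨1, 2, 3, 7, 1, 0⟩ [(7, 1)]]), (28, .T ⟨0, 2, 1, 5, 1, 1⟩ [.blk ⟨1, 2, 3, 7, 1, 0⟩ [(3, 2)], .blk ⟨1, 2, 2, 3, 1, 0⟩ [(3, 1)]])]),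
  (7, [(28, .T ⟨1, 2, 3, 7, 1, 0⟩ [])]),
  (11, [(21, .N ⟨2, 3, 2, 2, 3, 1⟩ []), (28, .T ⟨0, 2, 1, 11, 1, 1⟩ [])]),
  (13, [(23, .N ⟨2, 3, 2, 2, 3, 1⟩ []), (26, .N ⟨2, 3, 2, 2, 3, 1⟩ [.nc 3 1]), (28, .T ⟨0, 2, 1, 13, 1, 1⟩ [])]),
  (17, [(27, .N ⟨2, 3, 2, 2, 3, 1⟩ []), (28, .N ⟨2, 3, 2, 2, 3, 1⟩ [.blk ⟨1, 2, 3, 7, 1, 0⟩ [(3, 1)]])]),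
  (19, [(28, .N ⟨2, 3, 2, 2, 3, 1⟩ [])]),
  (23, [(28, .N ⟨2, 3, 2, 2, 3, 1⟩ [])]),
  (29, [(28, .N ⟨2, 3, 2, 2, 3, 1⟩ [])]),
  (31, [(28, .N ⟨2, 3, 2, 2, 3, 1⟩ [])])]

theorem tabF_ok : covAll 0 6 19 29 34 tabF = true := by decide +kernel

def tabA5 : List (ℕ × List (ℕ × Cert)) := [
  (2, [(5, .T ⟨3, 3, 1, 2, 1, 0⟩ [])]),
  (3, [(5, .T ⟨1, 2, 2, 3, 1, 0⟩ [])]),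
  (5, [(5, .N ⟨3, 3, 1, 2, 1, 0⟩ [])])]

theorem tabA5_ok : covAll 2 1 5 6 6 tabA5 = true := by decide +kernel

def tabA7 : List (ℕ × List (ℕ × Cert)) := [
  (2, [(9, .T ⟨2, 3, 1, 2, 1, 1⟩ [])]),
  (3, [(8, .N ⟨3, 5, 1, 2, 2, 0⟩ []), (9, .N ⟨1, 2, 3, 7, 1, 0⟩ [])]),
  (5, [(9, .N ⟨2, 3, 1, 2, 1, 1⟩ [])]),
  (7, [(9, .N ⟨2, 3, 1, 2, 1, 1⟩ [])])]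

theorem tabA7_ok : covAll 2 1 7 10 10 tabA7 = true := by decide +kernel

def tabB7 : List (ℕ × List (ℕ × Cert)) := [
  (2, [(8, .T ⟨2, 3, 1, 2, 1, 1⟩ [])]),
  (3, [(7, .N ⟨3, 5, 1, 2, 2, 0⟩ []), (8, .N ⟨1, 2, 3, 7, 1, 0⟩ [])]),
  (5, [(8, .N ⟨2, 3, 1, 2, 1, 1⟩ [])]),
  (7, [(8, .N ⟨2, 3, 1, 2, 1, 1⟩ [])])]

theorem tabB7_ok : covAll 2 2 7 9 10 tabB7 = true := by decide +kernel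

def tabK13 : List (ℕ × List (ℕ × Cert)) := [
  (2, [(13, .T ⟨2, 5, 1, 2, 2, 1⟩ [])]),
  (3, [(13, .T ⟨1, 2, 2, 3, 1, 1⟩ [])]),
  (5, [(13, .T ⟨0, 2, 1, 5, 1, 1⟩ [])]),
  (7, [(13, .T ⟨1, 2, 3, 7, 1, 0⟩ [])]),
  (11, [(13, .N ⟨1, 2, 3, 7, 1, 0⟩ [])]),
  (13, [(13, .N ⟨1, 2, 3, 7, 1, 0⟩ [])])]

theorem tabK13_ok : covAll 2 3 13 14 16 tabK13 = true := by decide +kernel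

def tabG13 : List (ℕ × List (ℕ × Cert)) := [
  (2, [(13, .T ⟨2, 5, 1, 2, 2, 1⟩ [])]),
  (3, [(13, .T ⟨1, 2, 2, 3, 1, 1⟩ [])]),
  (5, [(13, .T ⟨0, 2, 1, 5, 1, 1⟩ [])]),
  (7, [(13, .T ⟨1, 2, 3, 7, 1, 0⟩ [])]),
  (11, [(13, .N ⟨1, 2, 3, 7, 1, 0⟩ [])]),
  (13, [(13, .N ⟨1, 2, 3, 7, 1, 0⟩ [])])]

theorem tabG13_ok : covAll 2 4 13 14 17 tabG13 = true := by decide +kernel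

def tabG14 : List (ℕ × List (ℕ × Cert)) := [
  (2, [(14, .T ⟨2, 5, 1, 2, 2, 1⟩ [])]),
  (3, [(14, .T ⟨1, 2, 2, 3, 1, 1⟩ [])]),
  (5, [(14, .T ⟨0, 2, 1, 5, 1, 1⟩ [])]),
  (7, [(14, .T ⟨1, 2, 3, 7, 1, 0⟩ [])]),
  (11, [(14, .N ⟨1, 2, 3, 7, 1, 0⟩ [])]),
  (13, [(14, .N ⟨1, 2, 3, 7, 1, 0⟩ [])]),
  (17, [(14, .N ⟨1, 2, 3, 7, 1, 0⟩ [])])]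

theorem tabG14_ok : covAll 2 4 14 15 18 tabG14 = true := by decide +kernel

def tabG19 : List (ℕ × List (ℕ × Cert)) := [
  (2, [(19, .T ⟨2, 3, 2, 2, 3, 1⟩ [])]),
  (3, [(19, .T ⟨1, 2, 2, 3, 1, 1⟩ [])]),
  (5, [(19, .T ⟨0, 2, 1, 5, 1, 1⟩ [])]),
  (7, [(19, .T ⟨1, 2, 3, 7, 1, 0⟩ [])]),
  (11, [(19, .N ⟨2, 3, 2, 2, 3, 1⟩ [])]),
  (13, [(19, .N ⟨2, 3, 2, 2, 3, 1⟩ [])]),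
  (17, [(19, .N ⟨2, 3, 2, 2, 3, 1⟩ [])]),
  (19, [(19, .N ⟨2, 3, 2, 2, 3, 1⟩ [])])]

theorem tabG19_ok : covAll 2 4 19 20 23 tabG19 = true := by decide +kernel

def tabG23 : List (ℕ × List (ℕ × Cert)) := [
  (2, [(23, .T ⟨2, 3, 2, 2, 3, 1⟩ [])]),
  (3, [(23, .T ⟨1, 2, 2, 3, 1, 1⟩ [])]),
  (5, [(23, .T ⟨0, 2, 1, 5, 1, 1⟩ [.blk ⟨1, 2, 3, 7, 1, 0⟩ [(3, 1)]])]),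
  (7, [(23, .T ⟨1, 2, 3, 7, 1, 0⟩ [])]),
  (11, [(23, .T ⟨0, 2, 1, 11, 1, 1⟩ [])]),
  (13, [(23, .N ⟨2, 3, 2, 2, 3, 1⟩ [])]),
  (17, [(23, .N ⟨2, 3, 2, 2, 3, 1⟩ [])]),
  (19, [(23, .N ⟨2, 3, 2, 2, 3, 1⟩ [])]),
  (23, [(23, .N ⟨2, 3, 2, 2, 3, 1⟩ [])])]

theorem tabG23_ok : covAll 2 4 23 24 27 tabG23 = true := by decide +kernel

end Cfsg.Agent.H427.Sp
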